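/-
A finite abelian group of exponent `p` acting coprimely by automorphisms.
-/
import Cfsg.Agent.Coprime.CyclicQuotient

set_option linter.unusedSectionVars false
set_option linter.style.haveILetI false

open scoped commutatorElement

namespace Cfsg.Lib.CoprimeLie

variable {G : Type*} [Group G] {A : Type*} [CommGroup A] (φ : A →* MulAut G)

/-- The fixed points of `B`. -/
def fixG (B : Subgroup A) : Subgroup G where
  carrier := {x | ∀ b ∈ B, φ b x = x}
  one_mem' := fun b _ => map_one _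
  mul_mem' := fun {x y} hx hy b hb => by rw [map_mul, hx b hb, hy b hb]
  inv_mem' := fun {x} hx b hb => by rw [map_inv, hx b hb]

theorem mem_fixG {B : Subgroup A} {x : G} : x ∈ fixG φ B ↔ ∀ b ∈ B, φ b x = x := Iff.rfl

theorem fixG_antitone {B B' : Subgroup A} (h : B ≤ B') : fixG φ B' ≤ fixG φ B := fun _ hx b hb => hx b (h hb)

theorem mem_fixG_zpowers {a : A} {x : G} (h : φ a x = x) : x ∈ fixG φ (Subgroup.zpowers a) := by
  intro b hb
  have h' : Subgroup.zpowers a ≤ (MulAction.stabilizer (MulAut G) x).comap φ := Subgroup.zpowers_le.2 h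
  exact h' hb

theorem fixG_bot : fixG φ ⊥ = ⊤ := eq_top_iff.2 fun x _ b hb => by
  rw [Subgroup.mem_bot] at hb
  subst hb
  simp

/-- Invariant subgroups. -/
def Inv (X : Subgroup G) : Prop := ∀ a, ∀ x ∈ X, φ a x ∈ X

theorem inv_fixG (B : Subgroup A) : Inv φ (fixG φ B) := fun a x hx b hb => by
  show φ b (φ a x) = φ a x
  rw [← MulAut.mul_apply, ← map_mul, mul_comm, map_mul, MulAut.mul_apply, hx b hb]

theorem inv_top : Inv φ (⊤ : Subgroup G) := fun _ _ _ => Subgroup.mem_top _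

theorem Inv.map_le {X : Subgroup G} (h : Inv φ X) (a : A) : X.map (φ a).toMonoidHom ≤ X := by
  rintro _ ⟨x, hx, rfl⟩
  exact h a x hx

theorem inv_of_map_le {X : Subgroup G} (h : ∀ a, X.map (φ a).toMonoidHom ≤ X) : Inv φ X :=
  fun a x hx => h a ⟨x, hx, rfl⟩

theorem Inv.inf {X Y : Subgroup G} (hX : Inv φ X) (hY : Inv φ Y) : Inv φ (X ⊓ Y) :=
  fun a x hx => ⟨hX a x hx.1, hY a x hx.2⟩

theorem Inv.commutator {X Y : Subgroup G} (hX : Inv φ X) (hY : Inv φ Y) : Inv φ ⁅X, Y⁆ :=
  inv_of_map_le φ fun a => by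
    rw [Subgroup.map_commutator]
    exact Subgroup.commutator_mono (hX.map_le φ a) (hY.map_le φ a)

theorem inv_lcs {X : Subgroup G} (hX : Inv φ X) : ∀ n, Inv φ (X.lowerCentralSeries n)
  | 0 => hX
  | n + 1 => by
    rw [Subgroup.lowerCentralSeries_succ]
    exact (inv_lcs hX n).commutator φ hX

theorem inv_iSup {κ : Sort*} {X : κ → Subgroup G} (h : ∀ i, Inv φ (X i)) : Inv φ (⨆ i, X i) :=
  inv_of_map_le φ fun a => by
    rw [Subgroup.map_iSup]
    exact iSup_mono fun i => (h i).map_le φ a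

variable [Finite G] [Finite A] {p : ℕ} [hp : Fact p.Prime]

theorem exists_fixed (hA : ∀ a : A, a ^ p = 1) (hcop : (Nat.card G).Coprime p) (B : Subgroup A) {K : Subgroup G}
    (hK : Inv φ K) {x : G} (hx : ∀ b ∈ B, x⁻¹ * φ b x ∈ K) : ∃ k ∈ K, x * k ∈ fixG φ B := by
  let α := {y : G // x⁻¹ * y ∈ K}
  have hmem : ∀ (b : B) (y : α), x⁻¹ * φ (b : A) (y : G) ∈ K := by
    intro b y
    have h1 := hK (b : A) _ y.2
    rw [map_mul, map_inv] at h1
    have h2 := mul_mem (hx b b.2) h1
    rwa [mul_assoc, mul_inv_cancel_left] at h2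
  letI : MulAction B α :=
    { smul := fun b y => ⟨φ (b : A) (y : G), hmem b y⟩
      one_smul := fun y => Subtype.ext (show φ (1 : A) (y : G) = y by simp)
      mul_smul := fun b c y => Subtype.ext
        (show φ ((b : A) * c) (y : G) = φ (b : A) (φ (c : A) (y : G)) by rw [map_mul, MulAut.mul_apply]) }
  have hBp : IsPGroup p B := fun b => ⟨1, Subtype.ext (by rw [pow_one]; exact hA b)⟩
  have hcard : Nat.card α = Nat.card K := Nat.card_congr
    { toFun := fun y => ⟨x⁻¹ * (y : G), y.2⟩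
      invFun := fun k => ⟨x * (k : G), by rw [inv_mul_cancel_left]; exact k.2⟩
      left_inv := fun y => Subtype.ext (mul_inv_cancel_left x _)
      right_inv := fun k => Subtype.ext (inv_mul_cancel_left x _) }
  have hne : Nat.card (MulAction.fixedPoints B α) ≠ 0 := by
    intro h0
    have h := hBp.card_modEq_card_fixedPoints α
    rw [h0, hcard] at h
    exact (Nat.Prime.coprime_iff_not_dvd hp.out).1
      (Nat.Coprime.coprime_dvd_right (Subgroup.card_subgroup_dvd_card K) hcop.symm)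
      (Nat.modEq_zero_iff_dvd.1 h)
  obtain ⟨⟨y, hy⟩⟩ := (Nat.card_ne_zero.1 hne).1
  refine ⟨x⁻¹ * (y : G), y.2, ?_⟩
  rw [mul_inv_cancel_left]
  exact fun b hb => congrArg Subtype.val (hy ⟨b, hb⟩)

/-- The subgroups of index dividing `p`. -/
abbrev Hyp (A : Type*) [CommGroup A] (p : ℕ) := {H : Subgroup A // H.index ∣ p}

/-- An invariant subgroup is generated by the fixed points of the hyperplanes. -/
theorem le_iSup_fixG (hA : ∀ a : A, a ^ p = 1) (hcop : (Nat.card G).Coprime p) {X : Subgroup G} (hX : Inv φ X) :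
    X ≤ ⨆ H : Hyp A p, X ⊓ fixG φ H.1 := by
  haveI : Finite (G ⋊[φ] A) := Finite.of_equiv _ SemidirectProduct.equivProd.symm
  set A' := (SemidirectProduct.inr : A →* G ⋊[φ] A).range with hA'
  set X' := X.map (SemidirectProduct.inl : G →* G ⋊[φ] A) with hX'
  haveI : IsMulCommutative A' := ⟨⟨fun u v => by
    obtain ⟨a, ha⟩ := u.2
    obtain ⟨b, hb⟩ := v.2
    refine Subtype.ext ?_
    rw [Subgroup.coe_mul, Subgroup.coe_mul, ← ha, ← hb, ← map_mul, ← map_mul, mul_comm]⟩⟩
  have hAX : A' ≤ Subgroup.normalizer (X' : Set (G ⋊[φ] A)) := by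
    rintro _ ⟨a, rfl⟩
    refine Cfsg.Lib.Coprime.mem_normalizer_of_conj_mem ?_ ?_
    · rintro _ ⟨x, hx, rfl⟩
      refine ⟨φ a x, hX a x hx, ?_⟩
      rw [SemidirectProduct.inl_aut, map_inv]
    · rintro _ ⟨x, hx, rfl⟩
      refine ⟨φ a⁻¹ x, hX a⁻¹ x hx, ?_⟩
      rw [SemidirectProduct.inl_aut, inv_inv, map_inv]
  have hcop' : (Nat.card A').Coprime (Nat.card X') := by
    have hAp : IsPGroup p A' := by
      rintro ⟨_, a, rfl⟩
      exact ⟨1, Subtype.ext (show (SemidirectProduct.inr a) ^ p ^ 1 = 1 by rw [pow_one, ← map_pow, hA, map_one])⟩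
    obtain ⟨n, hn⟩ := IsPGroup.iff_card.1 hAp
    rw [hn, hX', Subgroup.card_map_of_injective SemidirectProduct.inl_injective]
    exact Nat.Coprime.pow_left _ (Nat.Coprime.coprime_dvd_right (Subgroup.card_subgroup_dvd_card X) hcop.symm)
  have hle : X' ≤ ⨆ C ∈ Cfsg.Lib.Coprime.cyclicQuot A', X' ⊓ Subgroup.centralizer (C : Set (G ⋊[φ] A)) :=
    Cfsg.Lib.Coprime.le_join_cyclicQuot (Nat.card A') ⊥ X' (Nat.sub_le _ _) bot_le hAX hcop' bot_le
  have hsub : ⨆ C ∈ Cfsg.Lib.Coprime.cyclicQuot A', X' ⊓ Subgroup.centralizer (C : Set (G ⋊[φ] A)) ≤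
      (⨆ H : Hyp A p, X ⊓ fixG φ H.1).map SemidirectProduct.inl := by
    refine iSup₂_le fun C hC => ?_
    obtain ⟨hCA, _, ⟨a, rfl⟩, hCa⟩ := hC
    set H := C.comap (SemidirectProduct.inr : A →* G ⋊[φ] A) with hHdef
    have htop : H ⊔ Subgroup.zpowers a = ⊤ := by
      apply Subgroup.map_injective (SemidirectProduct.inr_injective (φ := φ))
      rw [Subgroup.map_sup, MonoidHom.map_zpowers, hHdef, Subgroup.map_comap_eq, ← MonoidHom.range_eq_map,
        inf_eq_right.2 hCA, hCa]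
    have hidx : H.index ∣ p := by
      have hgen : ∀ z : A ⧸ H, z ∈ Subgroup.zpowers (QuotientGroup.mk' H a) := by
        intro z
        induction z using QuotientGroup.induction_on with
        | H z =>
          have hz : z ∈ H ⊔ Subgroup.zpowers a := htop ▸ Subgroup.mem_top z
          have : (H ⊔ Subgroup.zpowers a).map (QuotientGroup.mk' H) ≤ Subgroup.zpowers (QuotientGroup.mk' H a) := by
            rw [Subgroup.map_sup, MonoidHom.map_zpowers, sup_le_iff]
            refine ⟨?_, le_rfl⟩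
            rintro _ ⟨y, hy, rfl⟩
            show (y : A ⧸ H) ∈ Subgroup.zpowers (a : A ⧸ H)
            rw [(QuotientGroup.eq_one_iff y).2 hy]
            exact one_mem _
          exact this ⟨z, hz, rfl⟩
      rw [Subgroup.index, ← orderOf_eq_card_of_forall_mem_zpowers hgen]
      exact orderOf_dvd_of_pow_eq_one (by rw [← map_pow, hA, map_one])
    rintro _ ⟨⟨x, hx, rfl⟩, hxc⟩
    refine ⟨x, Subgroup.mem_iSup_of_mem ⟨H, hidx⟩ ⟨hx, fun b hb => ?_⟩, rfl⟩
    apply SemidirectProduct.inl_injective (φ := φ)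
    rw [SemidirectProduct.inl_aut, map_inv, mul_inv_eq_iff_eq_mul]
    exact Subgroup.mem_centralizer_iff.1 hxc _ hb
  intro x hx
  obtain ⟨y, hy, hyx⟩ := (hle.trans hsub) ⟨x, hx, rfl⟩
  exact SemidirectProduct.inl_injective hyx ▸ hy

end Cfsg.Lib.CoprimeLie

namespace Cfsg.Lib.CoprimeLie

/-- The derived series of a subgroup, inside the ambient group. -/
def dser {G : Type*} [Group G] (X : Subgroup G) (j : ℕ) : Subgroup G := (fun Y => ⁅Y, Y⁆)^[j] X

theorem dser_succ {G : Type*} [Group G] (X : Subgroup G) (j : ℕ) : dser X (j + 1) = ⁅dser X j, dser X j⁆ :=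
  Function.iterate_succ_apply' _ _ _

theorem dser_mono {G : Type*} [Group G] {X Y : Subgroup G} (h : X ≤ Y) : ∀ j, dser X j ≤ dser Y j
  | 0 => h
  | j + 1 => by rw [dser_succ, dser_succ]; exact Subgroup.commutator_mono (dser_mono h j) (dser_mono h j)

theorem map_dser {G G' : Type*} [Group G] [Group G'] (f : G →* G') (X : Subgroup G) :
    ∀ j, (dser X j).map f = dser (X.map f) j
  | 0 => rfl
  | j + 1 => by rw [dser_succ, dser_succ, Subgroup.map_commutator, map_dser f X j]

end Cfsg.Lib.CoprimeLie
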