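/-
A collecting process in a Lie ring: words in finitely many families, each of which kills after a bounded number
of repetitions, are absorbed by the higher weights.
-/
import Cfsg.Agent.LieFpf.Graded

set_option linter.unusedSectionVars false

namespace Cfsg.Lib.CoprimeLie

open Cfsg.Lib.LieFpf (br br_le br_mono lie_mem_br)

variable {L : Type*} [LieRing L]

theorem br_comm (A B : AddSubgroup L) : br A B = br B A := by
  have key : ∀ A B : AddSubgroup L, br A B ≤ br B A := fun A B => br_le.2 fun a ha b hb => by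
    rw [← lie_skew]; exact neg_mem (lie_mem_br hb ha)
  exact le_antisymm (key A B) (key B A)

theorem br_sup_left (A A' B : AddSubgroup L) : br (A ⊔ A') B ≤ br A B ⊔ br A' B := by
  refine br_le.2 fun a ha b hb => ?_
  obtain ⟨x, hx, y, hy, rfl⟩ := AddSubgroup.mem_sup.1 ha
  rw [add_lie]
  exact AddSubgroup.add_mem_sup (lie_mem_br hx hb) (lie_mem_br hy hb)

theorem br_iSup_left {κ : Sort*} (A : κ → AddSubgroup L) (B : AddSubgroup L) :
    br (⨆ i, A i) B ≤ ⨆ i, br (A i) B := by
  refine br_le.2 fun a ha b hb => ?_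
  refine AddSubgroup.iSup_induction A (C := fun a : L => ⁅a, b⁆ ∈ ⨆ i, br (A i) B) ha
    (fun i a ha => AddSubgroup.mem_iSup_of_mem i (lie_mem_br ha hb)) ?_ ?_
  · rw [zero_lie]; exact zero_mem _
  · intro x y hx hy; rw [add_lie]; exact add_mem hx hy

theorem br_iSup_right {κ : Sort*} (A : AddSubgroup L) (B : κ → AddSubgroup L) :
    br A (⨆ i, B i) ≤ ⨆ i, br A (B i) := by
  rw [br_comm]
  exact (br_iSup_left B A).trans (iSup_mono fun i => (br_comm (B i) A).le)

theorem br_bot_left (B : AddSubgroup L) : br ⊥ B = ⊥ :=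
  le_bot_iff.1 (br_le.2 fun a ha b _ => by
    rw [AddSubgroup.mem_bot] at ha; subst ha; rw [zero_lie]; exact zero_mem _)

theorem br_bot_right (B : AddSubgroup L) : br B ⊥ = ⊥ := by rw [br_comm, br_bot_left]

/-- The Jacobi identity for subgroups. -/
theorem br_br_le (A B C : AddSubgroup L) : br (br A B) C ≤ br (br A C) B ⊔ br A (br B C) := by
  refine br_le.2 fun x hx c hc => ?_
  have key : br A B ≤ (br (br A C) B ⊔ br A (br B C)).comap
      (AddMonoidHom.mk' (fun x : L => ⁅x, c⁆) fun u v => add_lie u v c) := by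
    refine br_le.2 fun a ha b hb => ?_
    show ⁅⁅a, b⁆, c⁆ ∈ br (br A C) B ⊔ br A (br B C)
    rw [lie_lie, sub_eq_add_neg, lie_skew, add_comm]
    exact AddSubgroup.add_mem_sup (lie_mem_br (lie_mem_br ha hc) hb) (lie_mem_br ha (lie_mem_br hb hc))
  exact key hx

/-- Repeated bracketing by `B`. -/
def ad (B : AddSubgroup L) (X : AddSubgroup L) : AddSubgroup L := br X B

theorem ad_iterate_mono {B B' X X' : AddSubgroup L} (hB : B ≤ B') (hX : X ≤ X') :
    ∀ n, (ad B)^[n] X ≤ (ad B')^[n] X'
  | 0 => hX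
  | n + 1 => by
    rw [Function.iterate_succ_apply', Function.iterate_succ_apply']
    exact br_mono (ad_iterate_mono hB hX n) hB

/-- The derived series of `S`. -/
def dl (S : AddSubgroup L) (j : ℕ) : AddSubgroup L := (fun X => br X X)^[j] S

theorem dl_succ (S : AddSubgroup L) (j : ℕ) : dl S (j + 1) = br (dl S j) (dl S j) :=
  Function.iterate_succ_apply' _ _ _

theorem br_dl_le {S : AddSubgroup L} (hS : br S S ≤ S) : ∀ j, br (dl S j) S ≤ dl S j
  | 0 => hS
  | j + 1 => by
    rw [dl_succ]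
    refine (br_br_le _ _ _).trans (sup_le ?_ ?_)
    · exact br_mono (br_dl_le hS j) le_rfl
    · exact br_mono le_rfl (br_dl_le hS j)

/-- The lower central series of `S`. -/
def ls (S : AddSubgroup L) (t : ℕ) : AddSubgroup L := (ad S)^[t] S

theorem ls_succ (S : AddSubgroup L) (t : ℕ) : ls S (t + 1) = br (ls S t) S :=
  Function.iterate_succ_apply' _ _ _

theorem ls_antitone {S : AddSubgroup L} (hS : br S S ≤ S) : Antitone (ls S) := by
  refine antitone_nat_of_succ_le fun t => ?_
  induction t with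
  | zero => exact hS
  | succ t ih => rw [ls_succ S (t + 1)]; nth_rewrite 2 [ls_succ S t]; exact br_mono ih le_rfl

theorem br_ls_ls (S : AddSubgroup L) : ∀ v u, br (ls S u) (ls S v) ≤ ls S (u + v + 1)
  | 0, u => (ls_succ S u).ge
  | v + 1, u => by
    rw [ls_succ S v, br_comm, show u + (v + 1) + 1 = u + v + 1 + 1 by omega]
    refine (br_br_le _ _ _).trans (sup_le ?_ ?_)
    · rw [br_comm (ls S v) (ls S u), ls_succ S (u + v + 1)]
      exact br_mono (br_ls_ls S v u) le_rfl
    · rw [br_comm S, ← ls_succ, br_comm]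
      refine (br_ls_ls S v (u + 1)).trans (le_of_eq ?_)
      congr 1; omega

section Collect

variable {κ : Type*} (Sg : κ → ℕ → AddSubgroup L)

/-- The span of the words along a list of labels. -/
def wsp (Z : AddSubgroup L) (l : List (κ × ℕ)) : AddSubgroup L :=
  l.foldl (fun X q => br X (Sg q.1 q.2)) Z

/-- The weight of a list. -/
def wt (l : List (κ × ℕ)) : ℕ := (l.map Prod.snd).sum

theorem wsp_append (Z : AddSubgroup L) (l l' : List (κ × ℕ)) : wsp Sg Z (l ++ l') = wsp Sg (wsp Sg Z l) l' :=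
  List.foldl_append ..

theorem wsp_cons (Z : AddSubgroup L) (q : κ × ℕ) (l : List (κ × ℕ)) :
    wsp Sg Z (q :: l) = wsp Sg (br Z (Sg q.1 q.2)) l := rfl

theorem wsp_mono : ∀ (l : List (κ × ℕ)) {Z Z' : AddSubgroup L}, Z ≤ Z' → wsp Sg Z l ≤ wsp Sg Z' l
  | [], _, _, h => h
  | _ :: l, _, _, h => wsp_mono l (br_mono h le_rfl)

theorem wsp_sup (l : List (κ × ℕ)) :
    ∀ Z Z' : AddSubgroup L, wsp Sg (Z ⊔ Z') l ≤ wsp Sg Z l ⊔ wsp Sg Z' l := by
  induction l with
  | nil => intro Z Z'; exact le_refl (Z ⊔ Z')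
  | cons q l ih =>
    intro Z Z'
    rw [wsp_cons, wsp_cons, wsp_cons]
    exact (wsp_mono Sg l (br_sup_left _ _ _)).trans (ih _ _)

theorem wsp_iSup {μ : Sort*} (l : List (κ × ℕ)) : ∀ Z : μ → AddSubgroup L,
    wsp Sg (⨆ i, Z i) l ≤ ⨆ i, wsp Sg (Z i) l := by
  induction l with
  | nil => intro Z; exact le_refl (⨆ i, Z i)
  | cons q l ih =>
    intro Z
    simp only [wsp_cons]
    exact (wsp_mono Sg l (br_iSup_left _ _)).trans (ih _)

theorem wsp_le_self {Y : AddSubgroup L} (hY : ∀ f w, br Y (Sg f w) ≤ Y) :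
    ∀ l : List (κ × ℕ), wsp Sg Y l ≤ Y
  | [] => le_rfl
  | q :: l => (wsp_mono Sg l (hY q.1 q.2)).trans (wsp_le_self hY l)

theorem wsp_perm {Z Y : AddSubgroup L} (hmul : ∀ f g v w, br (Sg f v) (Sg g w) ≤ ⨆ h, Sg h (v + w))
    {n W : ℕ} (hshort : ∀ m : List (κ × ℕ), m.length < n → wt m = W → wsp Sg Z m ≤ Y)
    {l l' : List (κ × ℕ)} (h : l.Perm l') :
    ∀ u : List (κ × ℕ), (u ++ l).length = n → wt (u ++ l) = W →
      wsp Sg Z (u ++ l) ≤ wsp Sg Z (u ++ l') ⊔ Y := by
  induction h with
  | nil => exact fun u _ _ => le_sup_left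
  | @cons q l₁ l₂ _ ih =>
    intro u hn hW
    have := ih (u ++ [q]) (by simpa [add_comm, add_left_comm] using hn) (by simpa [wt, add_assoc] using hW)
    simpa using this
  | swap q r l =>
    intro u hn hW
    simp only [wsp_append, wsp_cons]
    refine (wsp_mono Sg l ((br_br_le _ _ _).trans (sup_le_sup_left
      ((br_mono le_rfl (hmul _ _ _ _)).trans (br_iSup_right _ _)) _))).trans ?_
    refine (wsp_sup Sg l _ _).trans (sup_le_sup_left ((wsp_iSup Sg l _).trans (iSup_le fun h => ?_)) _)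
    have := hshort (u ++ (h, r.2 + q.2) :: l)
      (by simp only [List.length_append, List.length_cons] at hn ⊢; omega)
      (by simp only [wt, List.map_append, List.map_cons, List.sum_append, List.sum_cons] at hW ⊢; omega)
    simpa only [wsp_append, wsp_cons] using this
  | @trans l₁ l₂ l₃ h₁ _ ih₁ ih₂ =>
    intro u hn hW
    refine (ih₁ u hn hW).trans (sup_le (ih₂ u ?_ ?_) le_sup_right)
    · rw [← hn]; simp [h₁.length_eq]
    · rw [← hW]; simp only [wt, List.map_append, List.sum_append, (h₁.map Prod.snd).sum_eq]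

variable [Fintype κ]

/-- The collecting lemma. -/
theorem collect (J : κ → AddSubgroup L) (c K : ℕ) (Z Y T : AddSubgroup L)
    (hmul : ∀ f g v w, br (Sg f v) (Sg g w) ≤ ⨆ h, Sg h (v + w))
    (hJ : ∀ f w, Sg f w ≤ J f) (hrun : ∀ f, (ad (J f))^[c] ⊤ = ⊥)
    (hZ : ∀ f w, br Z (Sg f w) ≤ Z) (hY : ∀ f w, br Y (Sg f w) ≤ Y)
    (hT : ∀ f w, K < w → Sg f w ≤ T) (hZT : br Z T ≤ Y) :
    ∀ l : List (κ × ℕ), Fintype.card κ * c * K < wt l → wsp Sg Z l ≤ Y := by
  classical
  intro l
  induction hn : l.length using Nat.strong_induction_on generalizing l with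
  | _ n ih =>
  intro hW
  by_cases hbig : ∃ q ∈ l, K < q.2
  · obtain ⟨q, hq, hqK⟩ := hbig
    obtain ⟨l₁, l₂, rfl⟩ := List.append_of_mem hq
    rw [wsp_append, wsp_cons]
    exact (wsp_mono Sg l₂ ((br_mono (wsp_le_self Sg hZ l₁) (hT _ _ hqK)).trans hZT)).trans
      (wsp_le_self Sg hY l₂)
  · push Not at hbig
    obtain ⟨f, hf⟩ : ∃ f, c ≤ (l.filter (fun q => decide (q.1 = f))).length := by
      by_contra hno
      push Not at hno
      have h1 : wt l ≤ l.length * K := by
        have := List.sum_le_card_nsmul (l.map Prod.snd) K (by simpa using fun b a h => hbig (a, b) h)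
        simpa [wt] using this
      have h2 : l.length ≤ Fintype.card κ * c := by
        have h3 : l.length = ∑ f, (l.map Prod.fst).count f := by
          rw [← List.length_map Prod.fst]
          generalize l.map Prod.fst = m
          simpa [Multiset.coe_count] using
            (Multiset.sum_count_eq_card (s := Finset.univ) (m := (m : Multiset κ)) (by simp)).symm
        rw [h3]
        refine (Finset.sum_le_card_nsmul Finset.univ _ c fun f _ => ?_).trans (by simp)
        refine le_trans ?_ (hno f).le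
        rw [List.count, List.countP_map, List.countP_eq_length_filter]
        refine le_of_eq (congrArg List.length (List.filter_congr fun q _ => ?_))
        simp [beq_eq_decide]
      have := h1.trans (Nat.mul_le_mul_right K h2)
      omega
    have hperm := (List.filter_append_perm (fun q => decide (q.1 = f)) l).symm
    refine (wsp_perm Sg hmul (fun m hm hmW => ih m.length (hn ▸ hm) m rfl (hmW ▸ hW)) hperm [] rfl rfl).trans
      (sup_le ?_ le_rfl)
    rw [List.nil_append, wsp_append]
    have hrunle : ∀ m : List (κ × ℕ), (∀ q ∈ m, q.1 = f) → ∀ X : AddSubgroup L,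
        wsp Sg X m ≤ (ad (J f))^[m.length] X := by
      intro m
      induction m with
      | nil => exact fun _ X => le_rfl
      | cons q m ih' =>
        intro hm X
        rw [wsp_cons, List.length_cons, Function.iterate_succ_apply]
        refine (ih' (fun r hr => hm r (List.mem_cons_of_mem _ hr)) _).trans (ad_iterate_mono le_rfl ?_ _)
        exact br_mono le_rfl (hm q List.mem_cons_self ▸ hJ q.1 q.2)
    have h0 : wsp Sg Z (l.filter (fun q => decide (q.1 = f))) ≤ ⊥ := by
      refine (hrunle _ (fun q hq => by simpa using (List.mem_filter.1 hq).2) Z).trans ?_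
      obtain ⟨e, he⟩ := Nat.exists_eq_add_of_le hf
      rw [he, add_comm, Function.iterate_add_apply]
      refine (ad_iterate_mono le_rfl ((ad_iterate_mono le_rfl le_top c).trans (hrun f).le) e).trans ?_
      clear he
      induction e with
      | zero => exact le_rfl
      | succ e ihe => rw [Function.iterate_succ_apply']; exact (br_mono ihe le_rfl).trans (br_bot_left _).le
    exact (wsp_mono Sg _ (h0.trans bot_le)).trans (wsp_le_self Sg hY _)

theorem iterate_ad_le {S Z Y : AddSubgroup L} (hS : S ≤ ⨆ f, Sg f 1) {N : ℕ}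
    (h : ∀ l : List (κ × ℕ), N < wt l → wsp Sg Z l ≤ Y) : (ad S)^[N + 1] Z ≤ Y := by
  have key : ∀ n, (ad S)^[n] Z ≤ ⨆ l : {l : List (κ × ℕ) // wt l = n}, wsp Sg Z l.1 := by
    intro n
    induction n with
    | zero => exact le_iSup_of_le ⟨[], rfl⟩ le_rfl
    | succ n ih =>
      rw [Function.iterate_succ_apply']
      refine (br_mono ih hS).trans ((br_iSup_left _ _).trans (iSup_le fun l => ?_))
      refine (br_iSup_right _ _).trans (iSup_le fun f => ?_)
      refine le_iSup_of_le ⟨l.1 ++ [(f, 1)], by simp [wt, show (l.1.map Prod.snd).sum = n from l.2]⟩ ?_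
      rw [wsp_append]; exact le_rfl
  exact (key _).trans (iSup_le fun l => h l.1 (by rw [l.2]; exact Nat.lt_succ_self N))

/-- The class bound obtained from the derived length. -/
def clb (M c : ℕ) : ℕ → ℕ
  | 0 => 0
  | j + 1 => 2 * (M * c * (clb M c j + 1) + 1)

/-- A solvable subring spanned by the weighted families is nilpotent of bounded class. -/
theorem ls_clb_le (J : κ → AddSubgroup L) (c : ℕ) {S : AddSubgroup L} (hSS : br S S ≤ S)
    (hmul : ∀ f g v w, br (Sg f v) (Sg g w) ≤ ⨆ h, Sg h (v + w))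
    (hJ : ∀ f w, Sg f w ≤ J f) (hrun : ∀ f, (ad (J f))^[c] ⊤ = ⊥)
    (hS : S ≤ ⨆ f, Sg f 1) (hwt : ∀ f w, Sg f w ≤ ls S (w - 1)) :
    ∀ j, ls S (clb (Fintype.card κ) c j) ≤ dl S j
  | 0 => le_rfl
  | j + 1 => by
    set K := clb (Fintype.card κ) c j + 1 with hK
    set n := Fintype.card κ * c * K with hn
    have ih := ls_clb_le J c hSS hmul hJ hrun hS hwt j
    have hSg : ∀ f w, Sg f w ≤ S := fun f w => (hwt f w).trans (ls_antitone hSS (Nat.zero_le _))
    have hid : ∀ i f w, br (dl S i) (Sg f w) ≤ dl S i := fun i f w =>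
      (br_mono le_rfl (hSg f w)).trans (br_dl_le hSS i)
    have hT : ∀ f w, K < w → Sg f w ≤ dl S j := fun f w hw =>
      ((hwt f w).trans (ls_antitone hSS (by omega))).trans ih
    have h1 : (ad S)^[n + 1] S ≤ dl S j := iterate_ad_le Sg hS
      (collect Sg J c K S (dl S j) (dl S j) hmul hJ hrun (hid 0) (hid j) hT
        (by rw [br_comm]; exact br_dl_le hSS j))
    have h2 : (ad S)^[n + 1] (dl S j) ≤ dl S (j + 1) := iterate_ad_le Sg hS
      (collect Sg J c K (dl S j) (dl S (j + 1)) (dl S j) hmul hJ hrun (hid j) (hid (j + 1)) hT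
        (dl_succ S j).ge)
    show ls S (2 * (n + 1)) ≤ _
    rw [two_mul, ls, Function.iterate_add_apply]
    exact (ad_iterate_mono le_rfl h1 _).trans h2

/-- A nilpotent subring spanned by the weighted families kills every element after boundedly many steps. -/
theorem ad_iterate_top_eq_bot (J : κ → AddSubgroup L) (c : ℕ) {S : AddSubgroup L} (hSS : br S S ≤ S)
    (hmul : ∀ f g v w, br (Sg f v) (Sg g w) ≤ ⨆ h, Sg h (v + w))
    (hJ : ∀ f w, Sg f w ≤ J f) (hrun : ∀ f, (ad (J f))^[c] ⊤ = ⊥)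
    (hS : S ≤ ⨆ f, Sg f 1) (hwt : ∀ f w, Sg f w ≤ ls S (w - 1)) {s : ℕ} (hs : dl S s = ⊥) :
    (ad S)^[Fintype.card κ * c * (clb (Fintype.card κ) c s + 1) + 1] ⊤ = ⊥ := by
  have h0 := (ls_clb_le Sg J c hSS hmul hJ hrun hS hwt s).trans hs.le
  refine le_bot_iff.1 (iterate_ad_le Sg hS (collect Sg J c _ ⊤ ⊥ ⊥ hmul hJ hrun
    (fun _ _ => le_top) (fun _ _ => (br_bot_left _).le)
    (fun f w hw => ((hwt f w).trans (ls_antitone hSS (by omega))).trans h0) (br_bot_right _).le))

end Collect

end Cfsg.Lib.CoprimeLie
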