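/-
A variant of Kreknin's theorem: a graded Lie ring whose zero component is soluble and acts nilpotently on the
other components has bounded derived length.
-/
import Cfsg.Agent.CoprimeLie.Collect

set_option linter.unusedSectionVars false

namespace Cfsg.Lib.CoprimeLie

open Cfsg.Lib.LieFpf (br br_le br_mono lie_mem_br act act_le act_mono lie_mem_act der der_mono W val_partner)

variable {L : Type*} [LieRing L] {p : ℕ}

/-- A graded family. -/
def IsGr (E : ZMod p → AddSubgroup L) : Prop := act E E ≤ E

theorem IsGr.lie {E : ZMod p → AddSubgroup L} (hE : IsGr E) {i j : ZMod p} {a b : L} (ha : a ∈ E i)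
    (hb : b ∈ E j) : ⁅a, b⁆ ∈ E (i + j) :=
  hE _ (lie_mem_act ha hb)

theorem IsGr.der {E : ZMod p → AddSubgroup L} (hE : IsGr E) : IsGr (LieFpf.der E) := act_mono hE hE

theorem IsGr.iterate {E : ZMod p → AddSubgroup L} (hE : IsGr E) : ∀ m, IsGr (LieFpf.der^[m] E)
  | 0 => hE
  | m + 1 => by rw [Function.iterate_succ_apply']; exact (hE.iterate m).der

theorem IsGr.iterate_le {E : ZMod p → AddSubgroup L} (hE : IsGr E) : ∀ m, LieFpf.der^[m] E ≤ E
  | 0 => le_rfl
  | m + 1 => by rw [Function.iterate_succ_apply']; exact (der_mono (hE.iterate_le m)).trans hE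

theorem W.mem {E : ZMod p → AddSubgroup L} (hE : IsGr E) {s : ℕ} {i : ZMod p} {x : L} (hx : W E s i x) :
    x ∈ E i := by
  induction hx with
  | gen _ hx => exact hx
  | zero => exact zero_mem _
  | add _ _ h1 h2 => exact add_mem h1 h2
  | neg _ h => exact neg_mem h
  | step _ _ hg h => exact hE.lie h hg

theorem W.mono {E E' : ZMod p → AddSubgroup L} (h : E ≤ E') {s : ℕ} {i : ZMod p} {x : L} (hx : W E s i x) :
    W E' s i x := by
  induction hx with
  | gen hi hx => exact W.gen hi (h _ hx)
  | zero => exact W.zero _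
  | add _ _ h1 h2 => exact h1.add h2
  | neg _ h => exact h.neg
  | step _ hj hg ih => exact ih.step hj (h _ hg)

/-- The words of index exceeding `s`, as a subgroup. -/
def Wg (E : ZMod p → AddSubgroup L) (s : ℕ) (i : ZMod p) : AddSubgroup L where
  carrier := {x | W E s i x}
  zero_mem' := W.zero _
  add_mem' := W.add
  neg_mem' := W.neg

theorem br_Wg_zero {E : ZMod p → AddSubgroup L} (hE : IsGr E) (s : ℕ) (i : ZMod p) :
    br (Wg E s i) (E 0) ≤ Wg E s i := by
  refine br_le.2 fun x hx e he => ?_
  show W E s i ⁅x, e⁆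
  have hx' : W E s i x := hx
  clear hx
  induction hx' with
  | @gen i x hi hx =>
    have := hE.lie hx he
    rw [add_zero] at this
    exact W.gen hi this
  | zero => rw [zero_lie]; exact W.zero _
  | add _ _ h1 h2 => rw [add_lie]; exact h1.add h2
  | neg _ h => rw [neg_lie]; exact h.neg
  | @step i j a g ha hj hg ih =>
    have e' : ⁅⁅a, g⁆, e⁆ = ⁅⁅a, e⁆, g⁆ + ⁅a, ⁅g, e⁆⁆ := by
      rw [lie_lie, sub_eq_add_neg, lie_skew, add_comm]
    rw [e']
    refine (ih.step hj hg).add (ha.step hj ?_)
    have := hE.lie hg he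
    rwa [add_zero] at this

variable [NeZero p]

theorem step {E : ZMod p → AddSubgroup L} (hE : IsGr E) {s : ℕ} {S : ZMod p} (hS : S.val = s + 1)
    {i : ZMod p} {u : L} (hu : W E s i u) :
    ∀ {j : ZMod p} {c : L}, i + j = S → c ∈ E j → ⁅u, c⁆ ∈ Wg E (s + 1) S ⊔ br (E S) (E 0) := by
  induction hu with
  | @gen i x hi hx =>
    intro j c hij hc
    rcases Nat.lt_or_ge (s + 1) i.val with hi' | hi'
    · have hval := val_partner hij (by omega)
      have hj : s + 1 < j.val := by have := i.val_lt; omega
      have := (W.gen (E := E) (s := s + 1) hi' hx).step hj hc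
      rw [hij] at this
      exact AddSubgroup.mem_sup_left this
    · have hiS : i = S := ZMod.val_injective p (by omega)
      rw [hiS, add_eq_left] at hij
      exact AddSubgroup.mem_sup_right (lie_mem_br (hiS ▸ hx) (hij ▸ hc))
  | zero => intro j c _ _; rw [zero_lie]; exact zero_mem _
  | add _ _ ihx ihy => intro j c hij hc; rw [add_lie]; exact add_mem (ihx hij hc) (ihy hij hc)
  | neg _ ih => intro j c hij hc; rw [neg_lie]; exact neg_mem (ih hij hc)
  | @step i g0 a g ha hg0 hg ih =>
    intro j c hij hc
    rw [lie_lie a g c]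
    refine sub_mem (ih (j := g0 + j) (by rw [← hij]; ring) (hE.lie hg hc)) ?_
    have hac : ⁅a, c⁆ ∈ E (i + j) := hE.lie (W.mem hE ha) hc
    rcases Nat.lt_or_ge (s + 1) g0.val with hg' | hg'
    · have hsum : g0 + (i + j) = S := by rw [← hij]; ring
      have hval := val_partner hsum (by omega)
      have ht : s + 1 < (i + j).val := by have := g0.val_lt; omega
      have := (W.gen (E := E) (s := s + 1) hg' hg).step ht hac
      rw [hsum] at this
      exact AddSubgroup.mem_sup_left this
    · have hgS : g0 = S := ZMod.val_injective p (by omega)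
      have h0 : i + j = 0 := by
        rw [hgS] at hij
        calc i + j = i + S + j - S := by ring
          _ = 0 := by rw [hij, sub_self]
      exact AddSubgroup.mem_sup_right (lie_mem_br (hgS ▸ hg) (h0 ▸ hac))

theorem der_top_le {G F : ZMod p → AddSubgroup L} (hG : IsGr G) (hFG : F ≤ G) {s : ℕ} {S : ZMod p}
    (hS : S.val = s + 1) (hlow : ∀ k : ZMod p, k ≠ 0 → k.val ≤ s → F k ≤ Wg G s k) :
    der F S ≤ Wg G (s + 1) S ⊔ br (G S) (G 0) := by
  refine iSup_le fun i => br_le.2 fun a ha b hb => ?_
  have hij : i + (S - i) = S := add_sub_cancel i S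
  by_cases hi : i = 0
  · subst hi
    rw [sub_zero] at hb
    rw [← lie_skew]
    exact neg_mem (AddSubgroup.mem_sup_right (lie_mem_br (hFG _ hb) (hFG _ ha)))
  rcases Nat.lt_or_ge s i.val with h | h
  · exact step hG hS (W.gen h (hFG i ha)) hij (hFG _ hb)
  · exact step hG hS (hlow i hi h ha) hij (hFG _ hb)

/-- The derived length needed to reach the indices exceeding `s`. -/
def kg (m : ℕ) : ℕ → ℕ
  | 0 => 0
  | s + 1 => kg m s + m * (kg m s + 1)

theorem kreknin (m : ℕ) : ∀ (s : ℕ), s < p → ∀ E : ZMod p → AddSubgroup L, IsGr E →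
    (∀ k, k ≠ 0 → (ad (E 0))^[m] (E k) = ⊥) →
    ∀ k : ZMod p, k ≠ 0 → k.val ≤ s → (der^[kg m s] E) k ≤ Wg E s k
  | 0, _, E, _, _, k, hk0, hk => absurd ((ZMod.val_eq_zero k).1 (by omega)) hk0
  | s + 1, hs, E, hE, hN, k, hk0, hk => by
    set g := kg m s with hg
    set S : ZMod p := ((s + 1 : ℕ) : ZMod p) with hSdef
    have hS : S.val = s + 1 := ZMod.val_natCast_of_lt hs
    have hN' : ∀ {G : ZMod p → AddSubgroup L}, G ≤ E → ∀ k, k ≠ 0 → (ad (G 0))^[m] (G k) = ⊥ := fun {G} hGE k hk =>
      le_bot_iff.1 ((ad_iterate_mono (hGE 0) (hGE k) m).trans (hN k hk).le)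
    have key : ∀ r, (der^[r * (g + 1)] E) S ≤ Wg E (s + 1) S ⊔ (ad (E 0))^[r] (E S) := by
      intro r
      induction r with
      | zero => rw [Nat.zero_mul]; exact le_sup_right
      | succ r ih =>
        set G := der^[r * (g + 1)] E with hGdef
        have hG : IsGr G := hE.iterate _
        have hGE : G ≤ E := hE.iterate_le _
        have e : der^[(r + 1) * (g + 1)] E = der (der^[g] G) := by
          rw [hGdef, ← Function.iterate_succ_apply' der g, ← Function.iterate_add_apply]
          congr 2
          simp only [Nat.succ_eq_add_one]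
          ring
        rw [e]
        refine (der_top_le hG (hG.iterate_le g) hS (kreknin m s (by omega) G hG (hN' hGE))).trans
          (sup_le (le_sup_of_le_left fun x hx => W.mono hGE hx) ?_)
        refine (br_mono ih (hGE 0)).trans ((br_sup_left _ _ _).trans (sup_le_sup (br_Wg_zero hE _ _) ?_))
        rw [Function.iterate_succ_apply']
        exact le_rfl
    have hSne : S ≠ 0 := fun h => by rw [h, ZMod.val_zero] at hS; omega
    set F := der^[m * (g + 1)] E with hFdef
    have hF : IsGr F := hE.iterate _
    have hFE : F ≤ E := hE.iterate_le _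
    have hFS : F S ≤ Wg E (s + 1) S := by
      have := key m
      rwa [hN S hSne, sup_bot_eq] at this
    have hsplit : der^[kg m (s + 1)] E = der^[g] F := by
      rw [hFdef, ← Function.iterate_add_apply]
      rfl
    rw [hsplit]
    intro x hx
    rcases Nat.lt_or_ge s k.val with hk' | hk'
    · obtain rfl : k = S := ZMod.val_injective p (by omega)
      exact hFS (hF.iterate_le g _ hx)
    · have hW : W F s k x := kreknin m s (by omega) F hF (hN' hFE) k hk0 hk' hx
      show W E (s + 1) k x
      clear hk hk' hk0 hx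
      have gen : ∀ {t : ZMod p} {y : L}, s < t.val → y ∈ F t → W E (s + 1) t y := by
        intro t y ht hy
        rcases Nat.lt_or_ge (s + 1) t.val with ht' | ht'
        · exact W.gen ht' (hFE t hy)
        · obtain rfl : t = S := ZMod.val_injective p (by omega)
          exact hFS hy
      induction hW with
      | gen hi hx => exact gen hi hx
      | zero => exact W.zero _
      | add _ _ ihx ihy => exact ihx.add ihy
      | neg _ ih => exact ih.neg
      | step _ hj hg ih => exact (gen hj hg).lie ih

/-- The variant of Kreknin's theorem. -/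
theorem kreknin_bot {E : ZMod p → AddSubgroup L} (hE : IsGr E) {m s : ℕ}
    (hN : ∀ k, k ≠ 0 → (ad (E 0))^[m] (E k) = ⊥) (hs : dl (E 0) s = ⊥) :
    der^[s + kg m (p - 1)] E = ⊥ := by
  have hp := Nat.pos_of_ne_zero (NeZero.ne p)
  set F := der^[kg m (p - 1)] E with hF
  have hF0 : ∀ k, k ≠ 0 → F k = ⊥ := by
    intro k hk
    refine le_bot_iff.1 fun x hx => ?_
    have hW : W E (p - 1) k x := kreknin m (p - 1) (by omega) E hE hN k hk (by have := k.val_lt; omega) hx
    have key : ∀ {i : ZMod p} {y : L}, W E (p - 1) i y → y = 0 := by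
      intro i y hy
      induction hy with
      | @gen i _ hi _ => have := i.val_lt; omega
      | zero => rfl
      | add _ _ h1 h2 => rw [h1, h2, add_zero]
      | neg _ h => rw [h, neg_zero]
      | @step _ j _ _ _ hj _ _ => have := j.val_lt; omega
    exact key hW
  have hind : ∀ t, (∀ k, k ≠ 0 → (der^[t] F) k = ⊥) ∧ (der^[t] F) 0 ≤ dl (E 0) t := by
    intro t
    induction t with
    | zero => exact ⟨hF0, hE.iterate_le _ 0⟩
    | succ t ih =>
      rw [Function.iterate_succ_apply', dl_succ]
      constructor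
      · intro k hk
        refine le_bot_iff.1 (iSup_le fun i => ?_)
        by_cases hi : i = 0
        · subst hi
          rw [sub_zero, ih.1 k hk, br_bot_right]
        · rw [ih.1 i hi, br_bot_left]
      · refine iSup_le fun i => ?_
        by_cases hi : i = 0
        · subst hi
          rw [sub_zero]
          exact br_mono ih.2 ih.2
        · rw [ih.1 i hi, br_bot_left]
          exact bot_le
  rw [Function.iterate_add_apply, ← hF]
  funext k
  show (der^[s] F) k = ⊥
  by_cases hk : k = 0
  · subst hk
    exact le_bot_iff.1 ((hind s).2.trans hs.le)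
  · exact (hind s).1 k hk

end Cfsg.Lib.CoprimeLie
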