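/-
A Lie ring with an automorphism of prime order whose fixed points are soluble and act nilpotently has bounded
derived length.
-/
import Cfsg.Agent.CoprimeLie.Kreknin
import Cfsg.Agent.LieFpf.Eigen

set_option linter.unusedSectionVars false

open scoped TensorProduct

namespace Cfsg.Lib.CoprimeLie

open Cfsg.Lib.LieFpf (br br_le br_mono lie_mem_br act act_le lie_mem_act der chi chi_add sum_chi_mul tmul_lie lie_mem_iSup)

section Aux

variable {L : Type*} [LieRing L] {M : Type*} [LieRing M] {R : Type*} [CommRing R] [LieAlgebra R M] {p : ℕ}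
  [Fact p.Prime]

theorem derived_bot_aux {ζ : R} (hζ : ζ ^ p = 1) (hsum : ∑ i ∈ Finset.range p, ζ ^ i = 0)
    (A : M →ₗ[R] M) (hAlie : ∀ x y, A ⁅x, y⁆ = ⁅A x, A y⁆) (hApow : ∀ x, A^[p] x = x) (k : ℕ)
    (hkM : ∀ x : M, (k * p) • x = x) (S : AddSubgroup M) (hfix : ∀ x, A x = x → x ∈ S) {m s : ℕ}
    (hN : (ad S)^[m] ⊤ = ⊥) (hs : dl S s = ⊥) (j : L →+ M) (hj : ∀ x y, j ⁅x, y⁆ = ⁅j x, j y⁆) :
    ∀ l ∈ dl (⊤ : AddSubgroup L) (s + kg m (p - 1)), j l = 0 := by
  have hper : ∀ (j : ℕ) (x), A^[j] x = A^[j % p] x := by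
    intro j x
    conv_lhs => rw [← Nat.mod_add_div j p, Function.iterate_add_apply, Function.iterate_mul]
    rw [Function.iterate_fixed (hApow x)]
  let E : ZMod p → AddSubgroup (M) := fun i =>
    AddMonoidHom.eqLocus A.toAddMonoidHom (DistribSMul.toAddMonoidHom _ (chi ζ i))
  have hmem : ∀ {i : ZMod p} {x}, x ∈ E i ↔ A x = chi ζ i • x := Iff.rfl
  have hE : IsGr E := by
    refine act_le.2 fun i j a ha b hb => ?_
    rw [hmem] at ha hb ⊢
    rw [hAlie, ha, hb, smul_lie, lie_smul, smul_smul, chi_add hζ]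
  have hE0 : E 0 ≤ S := fun x hx => hfix x (by
    rwa [hmem, chi, ZMod.val_zero, pow_zero, one_smul] at hx)
  have hspan : ∀ x : M, x ∈ ⨆ t, E t := by
    intro x
    let e : ZMod p → M := fun i => k • ∑ t : ZMod p, chi ζ (-(i * t)) • A^[t.val] x
    have he : ∀ i, e i ∈ E i := by
      intro i
      rw [hmem]
      simp only [e]
      rw [map_nsmul, map_sum, smul_comm (chi ζ i) k, Finset.smul_sum (r := chi ζ i)]
      congr 1
      simp only [map_smul]
      calc ∑ t : ZMod p, chi ζ (-(i * t)) • A (A^[t.val] x)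
          = ∑ t : ZMod p, chi ζ i • chi ζ (-(i * (t + 1))) • A^[(t + 1).val] x := by
            refine Finset.sum_congr rfl fun t _ => ?_
            rw [smul_smul, ← chi_add hζ, ← Function.iterate_succ_apply' (⇑A), hper (t.val + 1), ZMod.val_add,
              ZMod.val_one]
            congr 2
            ring
        _ = ∑ t : ZMod p, chi ζ i • chi ζ (-(i * t)) • A^[t.val] x :=
            Fintype.sum_equiv (Equiv.addRight (1 : ZMod p)) _ _ fun t => by simp only [Equiv.coe_addRight]
    have hs' : ∑ i, e i = x := by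
      simp only [e, ← Finset.smul_sum]
      rw [Finset.sum_comm]
      simp only [← Finset.sum_smul]
      rw [Finset.sum_eq_single (0 : ZMod p) (fun t _ ht => by
          simp only [← mul_neg]
          rw [sum_chi_mul hsum (neg_ne_zero.2 ht), zero_smul]) (fun h => absurd (Finset.mem_univ _) h)]
      simp only [mul_zero, neg_zero, ZMod.val_zero, chi, pow_zero, Finset.sum_const, Finset.card_univ, ZMod.card,
        Function.iterate_zero_apply]
      rw [smul_assoc, one_smul, smul_smul]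
      exact hkM x
    rw [← hs']
    exact sum_mem fun i _ => AddSubgroup.mem_iSup_of_mem i (he i)
  have key : ∀ (t : ℕ) (l : L), l ∈ dl (⊤ : AddSubgroup L) t → j l ∈ ⨆ i, (der^[t] E) i := by
    intro t
    induction t with
    | zero => exact fun l _ => hspan _
    | succ t ih =>
      have hle : dl (⊤ : AddSubgroup L) (t + 1) ≤ (⨆ i, (der^[t + 1] E) i).comap j := by
        rw [dl_succ]
        refine br_le.2 fun a ha c hc => ?_
        rw [AddSubgroup.mem_comap, hj, Function.iterate_succ_apply']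
        exact lie_mem_iSup (ih a ha) (ih c hc)
      exact fun l hl => hle hl
  have hzero : der^[s + kg m (p - 1)] E = ⊥ := by
    refine kreknin_bot hE (fun i _ => le_bot_iff.1 ((ad_iterate_mono hE0 le_top m).trans hN.le)) ?_
    have : ∀ t, dl (E 0) t ≤ dl S t := by
      intro t
      induction t with
      | zero => exact hE0
      | succ t ih => rw [dl_succ, dl_succ]; exact br_mono ih ih
    exact le_bot_iff.1 ((this s).trans hs.le)
  intro l hl
  have h := key _ l hl
  rw [hzero] at h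
  simpa [Pi.bot_apply, iSup_bot, AddSubgroup.mem_bot] using h

end Aux

section Tensor

variable {L : Type*} [LieRing L] (R : Type*) [CommRing R]

/-- The extension of scalars of a subgroup. -/
def ext (S : AddSubgroup L) : AddSubgroup (R ⊗[ℤ] L) :=
  AddSubgroup.closure {x | ∃ r : R, ∃ s ∈ S, r ⊗ₜ[ℤ] s = x}

theorem br_ext (A B : AddSubgroup L) : br (ext R A) (ext R B) ≤ ext R (br A B) := by
  refine br_le.2 fun x hx y hy => ?_
  induction hx using AddSubgroup.closure_induction with
  | mem x hx =>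
    obtain ⟨r, a, ha, rfl⟩ := hx
    induction hy using AddSubgroup.closure_induction with
    | mem y hy =>
      obtain ⟨t, b, hb, rfl⟩ := hy
      rw [tmul_lie]
      exact AddSubgroup.subset_closure ⟨r * t, ⁅a, b⁆, lie_mem_br ha hb, rfl⟩
    | zero => rw [lie_zero]; exact zero_mem _
    | add y z _ _ hy hz => rw [lie_add]; exact add_mem hy hz
    | neg y _ hy => rw [lie_neg]; exact neg_mem hy
  | zero => rw [zero_lie]; exact zero_mem _
  | add x z _ _ hx hz => rw [add_lie]; exact add_mem hx hz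
  | neg x _ hx => rw [neg_lie]; exact neg_mem hx

theorem ext_bot : ext R (⊥ : AddSubgroup L) = ⊥ := by
  refine le_bot_iff.1 ((AddSubgroup.closure_le _).2 ?_)
  rintro x ⟨r, s, hs, rfl⟩
  rw [AddSubgroup.mem_bot] at hs
  subst hs
  exact TensorProduct.tmul_zero L r

theorem ad_ext (S : AddSubgroup L) {m : ℕ} (h : (ad S)^[m] ⊤ = ⊥) : (ad (ext R S))^[m] ⊤ = ⊥ := by
  have key : ∀ t, (ad (ext R S))^[t] ⊤ ≤ ext R ((ad S)^[t] ⊤) := by
    intro t
    induction t with
    | zero =>
      intro x _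
      induction x using TensorProduct.induction_on with
      | zero => exact zero_mem _
      | tmul r l => exact AddSubgroup.subset_closure ⟨r, l, AddSubgroup.mem_top _, rfl⟩
      | add u v hu hv => exact add_mem (hu (AddSubgroup.mem_top _)) (hv (AddSubgroup.mem_top _))
    | succ t ih =>
      rw [Function.iterate_succ_apply', Function.iterate_succ_apply']
      exact (br_mono ih le_rfl).trans (br_ext R _ _)
  exact le_bot_iff.1 ((key m).trans (by rw [h, ext_bot]))

theorem dl_ext (S : AddSubgroup L) {s : ℕ} (h : dl S s = ⊥) : dl (ext R S) s = ⊥ := by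
  have key : ∀ t, dl (ext R S) t ≤ ext R (dl S t) := by
    intro t
    induction t with
    | zero => exact le_refl (ext R S)
    | succ t ih => rw [dl_succ, dl_succ]; exact (br_mono ih ih).trans (br_ext R _ _)
  exact le_bot_iff.1 ((key s).trans (by rw [h, ext_bot]))

theorem mem_ext_of_coord {b : Type*} [DecidableEq b] (B : Module.Basis b ℤ R) (S : AddSubgroup L) (x : R ⊗[ℤ] L)
    (hx : ∀ i, TensorProduct.equivFinsuppOfBasisLeft B x i ∈ S) : x ∈ ext R S := by
  rw [← (TensorProduct.equivFinsuppOfBasisLeft B).symm_apply_apply x,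
    TensorProduct.equivFinsuppOfBasisLeft_symm_apply]
  exact sum_mem fun i _ => AddSubgroup.subset_closure ⟨B i, _, hx i, rfl⟩

variable {R} {p : ℕ} [Fact p.Prime]

theorem derived_bot_of_ring {ζ : R} (hζ : ζ ^ p = 1) (hsum : ∑ i ∈ Finset.range p, ζ ^ i = 0)
    {b : Type*} (B : Module.Basis b ℤ R) (φ : R →ₗ[ℤ] ℤ) (hφ : φ 1 = 1) (f : L →+ L)
    (hflie : ∀ x y, f ⁅x, y⁆ = ⁅f x, f y⁆) (hfp : ∀ x, f^[p] x = x) (k : ℕ) (hk : ∀ x : L, (k * p) • x = x)
    (S : AddSubgroup L) (hfix : ∀ x, f x = x → x ∈ S) {m s : ℕ} (hN : (ad S)^[m] ⊤ = ⊥) (hs : dl S s = ⊥) :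
    dl (⊤ : AddSubgroup L) (s + kg m (p - 1)) = ⊥ := by
  classical
  let A : R ⊗[ℤ] L →ₗ[R] R ⊗[ℤ] L := f.toIntLinearMap.baseChange R
  have hA : ∀ (r : R) (l : L), A (r ⊗ₜ l) = r ⊗ₜ f l := fun r l => LinearMap.baseChange_tmul _ _ _
  have z1 : ∀ x : R ⊗[ℤ] L, ⁅x, (0 : R ⊗[ℤ] L)⁆ = 0 := fun x => lie_zero x
  have z2 : ∀ x : R ⊗[ℤ] L, ⁅(0 : R ⊗[ℤ] L), x⁆ = 0 := fun x => zero_lie x
  have d1 : ∀ x y z : R ⊗[ℤ] L, ⁅x, y + z⁆ = ⁅x, y⁆ + ⁅x, z⁆ := fun x y z => lie_add x y z
  have d2 : ∀ x y z : R ⊗[ℤ] L, ⁅x + y, z⁆ = ⁅x, z⁆ + ⁅y, z⁆ := fun x y z => add_lie x y z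
  have hAlie : ∀ x y, A ⁅x, y⁆ = ⁅A x, A y⁆ := by
    intro x y
    induction x using TensorProduct.induction_on with
    | zero => rw [z2, map_zero, z2]
    | add u v hu hv => rw [d2, map_add, map_add, hu, hv, d2]
    | tmul r l =>
      induction y using TensorProduct.induction_on with
      | zero => rw [z1, map_zero, z1]
      | add u v hu hv => rw [d1, map_add, map_add, hu, hv, d1]
      | tmul t q => rw [tmul_lie, hA, hA, hA, tmul_lie, hflie]
  have hApow : ∀ x, A^[p] x = x := by
    intro x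
    induction x using TensorProduct.induction_on with
    | zero => exact iterate_map_zero A p
    | add u v hu hv => rw [iterate_map_add, hu, hv]
    | tmul r l =>
      have h : ∀ j, A^[j] (r ⊗ₜ l) = r ⊗ₜ f^[j] l := by
        intro j
        induction j with
        | zero => rfl
        | succ j ih => rw [Function.iterate_succ_apply', ih, hA, Function.iterate_succ_apply']
      rw [h, hfp]
  have hAfix : ∀ x, A x = x → x ∈ ext R S := by
    intro x hx
    refine mem_ext_of_coord R B S x fun i => ?_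
    have hnat : ∀ y : R ⊗[ℤ] L, TensorProduct.equivFinsuppOfBasisLeft B (A y) i =
        f (TensorProduct.equivFinsuppOfBasisLeft B y i) := by
      intro y
      induction y using TensorProduct.induction_on with
      | zero => simp
      | add u v hu hv => simp only [map_add, Finsupp.add_apply, hu, hv]
      | tmul r l => rw [hA, TensorProduct.equivFinsuppOfBasisLeft_apply_tmul_apply,
          TensorProduct.equivFinsuppOfBasisLeft_apply_tmul_apply, map_zsmul]
    refine hfix _ ?_
    rw [← hnat, hx]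
  have hmM : ∀ x : R ⊗[ℤ] L, (k * p) • x = x := by
    intro x
    induction x using TensorProduct.induction_on with
    | zero => simp
    | add u v hu hv => rw [smul_add, hu, hv]
    | tmul r l => rw [← TensorProduct.tmul_smul, hk]
  refine le_bot_iff.1 fun l hl => ?_
  have h := derived_bot_aux (M := R ⊗[ℤ] L) hζ hsum A hAlie hApow k hmM (ext R S) hAfix
    (ad_ext R S hN) (dl_ext R S hs) (TensorProduct.mk ℤ R L 1).toAddMonoidHom
    (fun x y => by
      show (1 : R) ⊗ₜ[ℤ] ⁅x, y⁆ = ⁅(1 : R) ⊗ₜ[ℤ] x, (1 : R) ⊗ₜ[ℤ] y⁆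
      rw [tmul_lie, one_mul])
    l hl
  have := congrArg (fun z => TensorProduct.lid ℤ L (φ.rTensor L z)) h
  simpa [hφ] using this

end Tensor

/-- The bound on the derived length. -/
theorem derived_bot {L : Type*} [LieRing L] {p : ℕ} [Fact p.Prime] (f : L →+ L)
    (hflie : ∀ x y, f ⁅x, y⁆ = ⁅f x, f y⁆) (hfp : ∀ x, f^[p] x = x) (k : ℕ) (hk : ∀ x : L, (k * p) • x = x)
    (S : AddSubgroup L) (hfix : ∀ x, f x = x → x ∈ S) {m s : ℕ} (hN : (ad S)^[m] ⊤ = ⊥) (hs : dl S s = ⊥) :
    dl (⊤ : AddSubgroup L) (s + kg m (p - 1)) = ⊥ := by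
  have hp := (Fact.out : p.Prime)
  set g := Polynomial.cyclotomic p ℤ with hg
  have hmon : g.Monic := Polynomial.cyclotomic.monic p ℤ
  have hroot : Polynomial.aeval (AdjoinRoot.root g) g = 0 := by rw [AdjoinRoot.aeval_eq, AdjoinRoot.mk_self]
  have hζ : AdjoinRoot.root g ^ p = 1 := by
    obtain ⟨q, hq⟩ := Polynomial.cyclotomic.dvd_X_pow_sub_one p ℤ
    have := congrArg (Polynomial.aeval (AdjoinRoot.root g)) hq
    rw [map_mul, hroot, zero_mul, map_sub, map_pow, Polynomial.aeval_X, map_one, sub_eq_zero] at this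
    exact this
  have hsum : ∑ i ∈ Finset.range p, AdjoinRoot.root g ^ i = 0 := by
    have := hroot
    conv at this => lhs; arg 2; rw [hg, Polynomial.cyclotomic_prime]
    rw [map_sum] at this
    simpa using this
  let φ : AdjoinRoot g →ₗ[ℤ] ℤ := (Polynomial.lcoeff ℤ 0).comp (AdjoinRoot.modByMonicHom hmon)
  have hφ : φ 1 = 1 := by
    have h1 : AdjoinRoot.modByMonicHom hmon 1 = 1 := by
      rw [← map_one (AdjoinRoot.mk g), AdjoinRoot.modByMonicHom_mk hmon, Polynomial.modByMonic_eq_self_iff hmon,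
        Polynomial.degree_one, hg, Polynomial.degree_cyclotomic]
      exact_mod_cast Nat.totient_pos.2 hp.pos
    show Polynomial.coeff (AdjoinRoot.modByMonicHom hmon 1) 0 = 1
    rw [h1, Polynomial.coeff_one_zero]
  exact derived_bot_of_ring hζ hsum (AdjoinRoot.powerBasis' hmon).basis φ hφ f hflie hfp k hk S hfix hN hs

end Cfsg.Lib.CoprimeLie
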