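/-
A nilpotent group with a coprime action whose special subgroups lie in nilpotent subgroups normalised by
centralisers has bounded class.
-/
import Cfsg.Agent.CoprimeLie.Action
import Cfsg.Agent.CoprimeLie.Eigen
import Cfsg.Agent.LieFpf.Twisted

set_option linter.unusedSectionVars false

open scoped commutatorElement

namespace Cfsg.Lib.CoprimeLie

open Cfsg.Lib.LieFpf (br br_le br_mono lie_mem_br Gr ι ι_mul ι_one ι_inv ι_of_ge ι_eq_zero_of_mem lcs lcs_le
  lcs_succ_le comm_mem commutator_lcs lie_ι grMap grMap_ι grMap_lie grMap_grMap grMap_id map_mem_lcs rep rep_mem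
  sum_ι_rep card_nsmul_gr inv_mul_mem_of_ι_eq ι_map_eq_of_grMap_eq mem_of_ι_eq_zero lowerSeq lowerSeq_succ ι_mem_lowerSeq)

section Span

variable {N : Type*} [Group N] [Finite N] {n : ℕ}

theorem br_closure_le {L : Type*} [LieRing L] {s t : Set L} {T : AddSubgroup L}
    (h : ∀ x ∈ s, ∀ y ∈ t, ⁅x, y⁆ ∈ T) : br (AddSubgroup.closure s) (AddSubgroup.closure t) ≤ T := by
  refine br_le.2 fun x hx y hy => ?_
  induction hx using AddSubgroup.closure_induction with
  | mem x hx =>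
    induction hy using AddSubgroup.closure_induction with
    | mem y hy => exact h x hx y hy
    | zero => rw [lie_zero]; exact zero_mem _
    | add y z _ _ hy hz => rw [lie_add]; exact add_mem hy hz
    | neg y _ hy => rw [lie_neg]; exact neg_mem hy
  | zero => rw [zero_lie]; exact zero_mem _
  | add x z _ _ hx hz => rw [add_lie]; exact add_mem hx hz
  | neg x _ hx => rw [neg_lie]; exact neg_mem hx

/-- The elements of the `k`-th term whose class lies in `T`. -/
noncomputable def preι (k : ℕ) (T : AddSubgroup (Gr N n)) : Subgroup N where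
  carrier := {x | x ∈ lcs N k ∧ ι k x ∈ T}
  one_mem' := ⟨one_mem _, by rw [ι_one]; exact zero_mem _⟩
  mul_mem' := fun {x y} hx hy => ⟨mul_mem hx.1 hy.1, by rw [ι_mul hx.1 hy.1]; exact add_mem hx.2 hy.2⟩
  inv_mem' := fun {x} hx => ⟨inv_mem hx.1, by rw [ι_inv hx.1]; exact neg_mem hx.2⟩

theorem mem_preι {k : ℕ} {T : AddSubgroup (Gr N n)} {x : N} :
    x ∈ preι k T ↔ x ∈ lcs N k ∧ ι k x ∈ T := Iff.rfl

variable (n) in
/-- The classes in degree `k` of the elements of `X`. -/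
noncomputable def img (k : ℕ) (X : Subgroup N) : AddSubgroup (Gr N n) :=
  AddSubgroup.closure {z | ∃ y ∈ X ⊓ lcs N k, ι k y = z}

theorem mem_img {k : ℕ} {X : Subgroup N} {y : N} (hy : y ∈ X) (hy' : y ∈ lcs N k) :
    (ι k y : Gr N n) ∈ img n k X :=
  AddSubgroup.subset_closure ⟨y, ⟨hy, hy'⟩, rfl⟩

theorem img_le {k : ℕ} {X : Subgroup N} {T : AddSubgroup (Gr N n)}
    (h : ∀ y ∈ X, y ∈ lcs N k → ι k y ∈ T) : img n k X ≤ T :=
  (AddSubgroup.closure_le _).2 fun _ ⟨y, hy, e⟩ => e ▸ h y hy.1 hy.2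

theorem img_mono {k : ℕ} {X Y : Subgroup N} (h : X ≤ Y) : img n k X ≤ img n k Y :=
  img_le fun _ hy hy' => mem_img (h hy) hy'

theorem br_img_le {i j : ℕ} {X Y : Subgroup N} {T : AddSubgroup (Gr N n)}
    (h : ∀ x ∈ X, x ∈ lcs N i → ∀ y ∈ Y, y ∈ lcs N j → ι (i + j + 1) ⁅x, y⁆ ∈ T) :
    br (img n i X) (img n j Y) ≤ T := by
  refine br_closure_le ?_
  rintro _ ⟨x, hx, rfl⟩ _ ⟨y, hy, rfl⟩
  rw [lie_ι hx.2 hy.2]
  exact h x hx.1 hx.2 y hy.1 hy.2

variable (n) in
/-- The classes of the elements of `X` in all degrees. -/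
noncomputable def sp (X : Subgroup N) : AddSubgroup (Gr N n) := ⨆ k, img n k X

theorem mem_sp {k : ℕ} {X : Subgroup N} {y : N} (hy : y ∈ X) (hy' : y ∈ lcs N k) :
    (ι k y : Gr N n) ∈ sp n X :=
  AddSubgroup.mem_iSup_of_mem k (mem_img hy hy')

theorem sp_mono {X Y : Subgroup N} (h : X ≤ Y) : sp n X ≤ sp n Y := iSup_mono fun _ => img_mono h

theorem br_sp_le {X Y : Subgroup N} {T : AddSubgroup (Gr N n)}
    (h : ∀ i j, ∀ x ∈ X, x ∈ lcs N i → ∀ y ∈ Y, y ∈ lcs N j → ι (i + j + 1) ⁅x, y⁆ ∈ T) :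
    br (sp n X) (sp n Y) ≤ T :=
  (br_iSup_left _ _).trans (iSup_le fun i => (br_iSup_right _ _).trans (iSup_le fun j => br_img_le (h i j)))

theorem sp_bot : sp n (⊥ : Subgroup N) = ⊥ :=
  le_bot_iff.1 (iSup_le fun k => img_le fun y hy _ => by
    rw [Subgroup.mem_bot] at hy
    subst hy
    rw [ι_one]
    exact zero_mem _)

theorem sp_top : sp n (⊤ : Subgroup N) = ⊤ := eq_top_iff.2 fun x _ => by
  rw [← sum_ι_rep x]
  exact sum_mem fun k _ => mem_sp (Subgroup.mem_top _) (rep_mem x k)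

theorem dl_sp_le (X : Subgroup N) : ∀ j, dl (sp n X) j ≤ sp n (dser X j)
  | 0 => le_refl (sp n X)
  | j + 1 => by
    rw [dl_succ, dser_succ]
    exact (br_mono (dl_sp_le X j) (dl_sp_le X j)).trans (br_sp_le fun i i' x hx hx' y hy hy' =>
      mem_sp (Subgroup.commutator_mem_commutator hx hy) (comm_mem hx' hy'))

end Span

section Engine

variable {N : Type*} [Group N] [Finite N] {A : Type*} [CommGroup A] [Finite A] (φ : A →* MulAut N) {p : ℕ}
  [hp : Fact p.Prime] {κ : Type*} {n : ℕ}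

/-- The hypotheses of the engine. -/
structure Specials (p : ℕ) (J : κ → Subgroup N) (c s : ℕ) : Prop where
  exponent : ∀ a : A, a ^ p = 1
  coprime : (Nat.card N).Coprime p
  inv : ∀ f, Inv φ (J f)
  gen : ⨆ f, J f = ⊤
  mul : ∀ f g (H : Hyp A p), ∃ h, ⁅J f, J g⁆ ⊓ fixG φ H.1 ≤ J h
  act : ∀ f (H : Hyp A p), ∃ b ∈ H.1, b ≠ 1 ∧ ∃ Q : Subgroup N,
    fixG φ (Subgroup.zpowers b) ≤ Subgroup.normalizer (Q : Set N) ∧ Q.lowerCentralSeries c = ⊥ ∧ J f ≤ Q
  sol : ∀ a : A, a ≠ 1 → dser (fixG φ (Subgroup.zpowers a)) s = ⊥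

/-- A subgroup of the Lie ring stable under the action. -/
def Stable (T : AddSubgroup (Gr N n)) : Prop := ∀ a, ∀ x ∈ T, grMap (φ a).toMonoidHom x ∈ T

theorem stable_of_map {T : AddSubgroup (Gr N n)} (h : ∀ a, T ≤ T.comap (grMap (φ a).toMonoidHom)) :
    Stable φ T := fun a _ hx => h a hx

theorem stable_sp {X : Subgroup N} (hX : Inv φ X) : Stable φ (sp n X) := stable_of_map φ fun a =>
  iSup_le fun k => img_le fun y hy hy' => by
    rw [AddSubgroup.mem_comap, grMap_ι _ hy']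
    exact mem_sp (hX a y hy) (map_mem_lcs _ hy')

theorem Stable.br {S T : AddSubgroup (Gr N n)} (hS : Stable φ S) (hT : Stable φ T) :
    Stable φ (LieFpf.br S T) := stable_of_map φ fun a => br_le.2 fun x hx y hy => by
  rw [AddSubgroup.mem_comap, grMap_lie]
  exact lie_mem_br (hS a x hx) (hT a y hy)

theorem stable_ls {S : AddSubgroup (Gr N n)} (hS : Stable φ S) : ∀ t, Stable φ (ls S t)
  | 0 => hS
  | t + 1 => by rw [ls_succ]; exact (stable_ls hS t).br φ hS

theorem inv_preι (k : ℕ) {T : AddSubgroup (Gr N n)} (hT : Stable φ T) : Inv φ (preι k T) := fun a x hx => by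
  have h := hT a _ hx.2
  rw [grMap_ι _ hx.1] at h
  exact ⟨map_mem_lcs (φ a).toMonoidHom hx.1, h⟩

theorem inv_lcsTop (k : ℕ) : Inv φ (lcs N k) := fun a _ hx => map_mem_lcs (φ a).toMonoidHom hx

variable {φ} {J : κ → Subgroup N} {c s : ℕ}

theorem ι_mem_of_hyp (D : Specials φ p J c s) {X : Subgroup N} (hX : Inv φ X) {k : ℕ} (hXk : X ≤ lcs N k)
    {T : AddSubgroup (Gr N n)} (hT : ∀ H : Hyp A p, ∀ x ∈ X ⊓ fixG φ H.1, ι k x ∈ T) {x : N} (hx : x ∈ X) :
    ι k x ∈ T :=
  ((iSup_le fun H y hy => ⟨hXk hy.1, hT H y hy⟩ :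
    (⨆ H : Hyp A p, X ⊓ fixG φ H.1) ≤ preι k T) (le_iSup_fixG φ D.exponent D.coprime hX hx)).2

theorem br_img_mul (D : Specials φ p J c s) {i j : ℕ} {X Y : Subgroup N} (hX : Inv φ X) (hY : Inv φ Y)
    {f g : κ} (hXf : X ≤ J f) (hYg : Y ≤ J g) {Z : Subgroup N} {T : AddSubgroup (Gr N n)}
    (hXY : ∀ x ∈ X, x ∈ lcs N i → ∀ y ∈ Y, y ∈ lcs N j → ⁅x, y⁆ ∈ Z)
    (hT : ∀ h, ∀ z ∈ J h, z ∈ Z → z ∈ lcs N (i + j + 1) → ι (i + j + 1) z ∈ T) :
    br (img n i X) (img n j Y) ≤ T := by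
  refine br_img_le fun x hx hx' y hy hy' => ?_
  have hle : ⁅X ⊓ lcs N i, Y ⊓ lcs N j⁆ ≤ Z ⊓ lcs N (i + j + 1) :=
    Subgroup.commutator_le.2 fun u hu v hv => ⟨hXY u hu.1 hu.2 v hv.1 hv.2, comm_mem hu.2 hv.2⟩
  refine ι_mem_of_hyp D ((hX.inf φ (inv_lcsTop φ i)).commutator φ (hY.inf φ (inv_lcsTop φ j)))
    (hle.trans inf_le_right) (fun H z hz => ?_) (Subgroup.commutator_mem_commutator ⟨hx, hx'⟩ ⟨hy, hy'⟩)
  obtain ⟨h, hh⟩ := D.mul f g H
  exact hT h z (hh ⟨Subgroup.commutator_mono (inf_le_left.trans hXf) (inf_le_left.trans hYg) hz.1, hz.2⟩)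
    (hle hz.1).1 (hle hz.1).2

/-- Every degree is spanned by the special subgroups. -/
theorem ι_mem_specials (D : Specials φ p J c s) :
    ∀ k, ∀ x ∈ lcs N k, (ι k x : Gr N n) ∈ ⨆ f, img n k (J f) := by
  intro k
  induction k with
  | zero =>
    intro x _
    have h : (⊤ : Subgroup N) ≤ preι 0 (⨆ f, img n 0 (J f)) := D.gen.ge.trans <| iSup_le fun f y hy =>
      ⟨Subgroup.mem_top y, AddSubgroup.mem_iSup_of_mem f (mem_img hy (Subgroup.mem_top y))⟩
    exact (h (Subgroup.mem_top x)).2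
  | succ k ih =>
    intro x hx
    have h : lcs N (k + 1) ≤ preι (k + 1) (⨆ f, img n (k + 1) (J f)) := by
      refine Subgroup.commutator_le.2 fun u hu v _ => ⟨comm_mem (i := k) (j := 0) hu (Subgroup.mem_top v), ?_⟩
      have hv : v ∈ lcs N 0 := Subgroup.mem_top v
      have h0 : (ι 0 v : Gr N n) ∈ ⨆ g, img n 0 (J g) := by
        have h' : (⊤ : Subgroup N) ≤ preι 0 (⨆ g, img n 0 (J g)) := D.gen.ge.trans <| iSup_le fun f y hy =>
          ⟨Subgroup.mem_top y, AddSubgroup.mem_iSup_of_mem f (mem_img hy (Subgroup.mem_top y))⟩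
        exact (h' (Subgroup.mem_top v)).2
      rw [show k + 1 = k + 0 + 1 from rfl, ← lie_ι hu hv]
      refine ((br_iSup_left _ _).trans (iSup_le fun f => (br_iSup_right _ _).trans (iSup_le fun g => ?_)))
        (lie_mem_br (ih u hu) h0)
      exact br_img_mul D (D.inv f) (D.inv g) le_rfl le_rfl (Z := ⊤) (fun _ _ _ _ _ _ => Subgroup.mem_top _)
        fun h z hz _ hz' => AddSubgroup.mem_iSup_of_mem h (mem_img hz hz')
    exact (h hx).2

theorem lift_fixed (D : Specials φ p J c s) (a : A) {K : Subgroup N} (hK : Inv φ K) {x : N}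
    (hx : x⁻¹ * φ a x ∈ K) : ∃ k ∈ K, x * k ∈ fixG φ (Subgroup.zpowers a) := by
  refine exists_fixed φ D.exponent D.coprime _ hK fun b hb => ?_
  obtain ⟨t, rfl⟩ := mem_powers_iff_mem_zpowers.2 hb
  show x⁻¹ * φ (a ^ t) x ∈ K
  induction t with
  | zero => simp
  | succ t ih =>
    have := mul_mem hx (hK a _ (ih (Subgroup.npow_mem_zpowers a t)))
    rwa [map_mul, map_inv, mul_assoc, mul_inv_cancel_left, ← MulAut.mul_apply, ← map_mul, ← pow_succ'] at this

theorem grMap_iterate (a : A) {k : ℕ} {y : N} (hy : y ∈ lcs N k) :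
    ∀ j, (grMap (φ a).toMonoidHom)^[j] (ι k y : Gr N n) = ι k (φ (a ^ j) y)
  | 0 => by simp
  | j + 1 => by
    rw [Function.iterate_succ_apply', grMap_iterate a hy j]
    show grMap (φ a).toMonoidHom (ι k ((φ (a ^ j)).toMonoidHom y)) = _
    rw [grMap_ι _ (map_mem_lcs (φ (a ^ j)).toMonoidHom hy)]
    show ι k (φ a (φ (a ^ j) y)) = _
    rw [← MulAut.mul_apply, ← map_mul, ← pow_succ']

theorem grMap_pow (D : Specials φ p J c s) (a : A) (x : Gr N n) :
    (grMap (φ a).toMonoidHom)^[p] x = x := by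
  have hsum : ∀ j, (grMap (φ a).toMonoidHom)^[j] (∑ k : Fin n, (ι (k : ℕ) (rep x k) : Gr N n)) =
      ∑ k : Fin n, (grMap (φ a).toMonoidHom)^[j] (ι (k : ℕ) (rep x k) : Gr N n) := by
    intro j
    induction j with
    | zero => rfl
    | succ j ih => simp only [Function.iterate_succ_apply', ih, map_sum]
  conv_lhs => rw [← sum_ι_rep x]
  rw [hsum]
  conv_rhs => rw [← sum_ι_rep x]
  refine Finset.sum_congr rfl fun k _ => ?_
  rw [grMap_iterate a (rep_mem x k), D.exponent, map_one]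
  rfl

theorem exists_inv (D : Specials φ p J c s) : ∃ m : ℕ, ∀ x : Gr N n, (m * p) • x = x := by
  obtain ⟨m, hm⟩ : ∃ m : ℕ, m * p ≡ 1 [MOD Nat.card N] := by
    obtain ⟨m, -, hm⟩ := Nat.exists_mul_mod_eq_of_coprime 1 D.coprime.symm Nat.card_pos.ne'
    exact ⟨m, by rw [mul_comm]; exact hm⟩
  refine ⟨m, fun x => ?_⟩
  have key : ∀ t : ℕ, t • x = (t % Nat.card N) • x := fun t => by
    conv_lhs => rw [← Nat.mod_add_div t (Nat.card N), add_smul, mul_comm (Nat.card N), mul_smul, card_nsmul_gr,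
      smul_zero, add_zero]
  rw [key (m * p), hm, ← key 1, one_smul]

/-- The fixed points in a degree are spanned by the fixed points of the special subgroups. -/
theorem img_fix_le (D : Specials φ p J c s) (a : A) (k : ℕ) :
    img n k (fixG φ (Subgroup.zpowers a)) ≤ ⨆ f, img n k (J f ⊓ fixG φ (Subgroup.zpowers a)) := by
  set T := ⨆ f, img n k (J f ⊓ fixG φ (Subgroup.zpowers a)) with hT
  set σ := grMap (c := n) (φ a).toMonoidHom with hσ
  let Av : Gr N n →+ Gr N n := AddMonoidHom.mk' (fun z => ∑ j ∈ Finset.range p, σ^[j] z) fun u v => by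
    simp only [iterate_map_add, Finset.sum_add_distrib]
  have hJ : ∀ f, img n k (J f) ≤ T.comap Av := by
    intro f
    refine img_le fun y hy hy' => ?_
    show ∑ j ∈ Finset.range p, σ^[j] (ι k y) ∈ T
    have hw : ∀ t, ∃ w ∈ J f ⊓ lcs N k, ∑ j ∈ Finset.range t, σ^[j] (ι k y) = ι k w := by
      intro t
      induction t with
      | zero => exact ⟨1, one_mem _, by rw [Finset.sum_range_zero, ι_one]⟩
      | succ t ih =>
        obtain ⟨w, hw, he⟩ := ih
        have hyt : φ (a ^ t) y ∈ J f ⊓ lcs N k :=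
          ⟨D.inv f _ _ hy, map_mem_lcs (φ (a ^ t)).toMonoidHom hy'⟩
        refine ⟨w * φ (a ^ t) y, mul_mem hw hyt, ?_⟩
        rw [Finset.sum_range_succ, he, hσ, grMap_iterate a hy', ι_mul hw.2 hyt.2]
    obtain ⟨w, hw, he⟩ := hw p
    rw [he]
    by_cases hk : k < n
    · have hfix : (ι k (φ a w) : Gr N n) = ι k w := by
        show ι k ((φ a).toMonoidHom w) = _
        rw [← grMap_ι _ hw.2, ← he, map_sum]
        have h1 := Finset.sum_range_succ' (fun j => σ^[j] (ι k y : Gr N n)) p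
        rw [Finset.sum_range_succ, grMap_pow D a, Function.iterate_zero_apply, add_left_inj] at h1
        rw [h1]
        exact Finset.sum_congr rfl fun j _ => (Function.iterate_succ_apply' _ _ _).symm
      have hmem := inv_mul_mem_of_ι_eq hk hw.2 (map_mem_lcs (φ a).toMonoidHom hw.2) hfix.symm
      obtain ⟨t, ht, hwt⟩ := lift_fixed D a ((D.inv f).inf φ (inv_lcsTop φ (k + 1)))
        (x := w) ⟨mul_mem ((J f).inv_mem hw.1) (D.inv f a w hw.1), hmem⟩
      rw [show (ι k w : Gr N n) = ι k (w * t) by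
        rw [ι_mul hw.2 (lcs_succ_le N k ht.2), ι_eq_zero_of_mem ht.2, add_zero]]
      exact AddSubgroup.mem_iSup_of_mem f (mem_img ⟨mul_mem hw.1 ht.1, hwt⟩ (mul_mem hw.2 (lcs_succ_le N k ht.2)))
    · rw [ι_of_ge (not_lt.1 hk)]
      exact zero_mem _
  refine img_le fun y hy hy' => ?_
  have h1 : ∑ j ∈ Finset.range p, σ^[j] (ι k y) ∈ T := (iSup_le hJ) (ι_mem_specials D k y hy')
  obtain ⟨m, hm⟩ := exists_inv (n := n) D
  rw [show (ι k y : Gr N n) = m • ∑ j ∈ Finset.range p, σ^[j] (ι k y) by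
    rw [Finset.sum_congr rfl fun j _ => by
        rw [hσ, grMap_iterate a hy', hy (a ^ j) (Subgroup.npow_mem_zpowers a j)],
      Finset.sum_const, Finset.card_range, smul_smul, hm]]
  exact nsmul_mem h1 m

theorem mem_sp_of_fixed (D : Specials φ p J c s) (a : A) {x : Gr N n}
    (hx : grMap (φ a).toMonoidHom x = x) : x ∈ sp n (fixG φ (Subgroup.zpowers a)) := by
  rw [← sum_ι_rep x]
  refine sum_mem fun k _ => ?_
  obtain ⟨t, ht, hyt⟩ := lift_fixed D a (inv_lcsTop φ ((k : ℕ) + 1)) (ι_map_eq_of_grMap_eq _ hx k)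
  rw [show (ι (k : ℕ) (rep x k) : Gr N n) = ι (k : ℕ) (rep x k * t) by
    rw [ι_mul (rep_mem x k) (lcs_succ_le N k ht), ι_eq_zero_of_mem ht, add_zero]]
  exact mem_sp hyt (mul_mem (rep_mem x k) (lcs_succ_le N k ht))

/-- The weighted pieces of the fixed points of `a`. -/
noncomputable def Sg (φ : A →* MulAut N) (J : κ → Subgroup N) (n : ℕ) (a : A) (f : κ) (w : ℕ) :
    AddSubgroup (Gr N n) :=
  ⨆ i, img n i (J f ⊓ fixG φ (Subgroup.zpowers a) ⊓ preι i (ls (sp n (fixG φ (Subgroup.zpowers a))) (w - 1)))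

theorem br_sp_self (X : Subgroup N) : br (sp n X) (sp n X) ≤ sp n X :=
  br_sp_le fun _ _ _ hx hx' _ hy hy' => mem_sp (by
    rw [commutatorElement_def]; exact mul_mem (mul_mem (mul_mem hx hy) (inv_mem hx)) (inv_mem hy))
    (comm_mem hx' hy')

theorem Sg_le_sp (a : A) (f : κ) (w : ℕ) : Sg φ J n a f w ≤ sp n (J f) :=
  iSup_mono fun _ => img_mono (inf_le_left.trans inf_le_left)

theorem Sg_le_ls (a : A) (f : κ) (w : ℕ) :
    Sg φ J n a f w ≤ ls (sp n (fixG φ (Subgroup.zpowers a))) (w - 1) :=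
  iSup_le fun _ => img_le fun _ hy _ => hy.2.2

theorem Sg_mul (D : Specials φ p J c s) (a : A) (f g : κ) (v w : ℕ) :
    br (Sg φ J n a f v) (Sg φ J n a g w) ≤ ⨆ h, Sg φ J n a h (v + w) := by
  set F := fixG φ (Subgroup.zpowers a) with hF
  set S := sp n F with hS
  have hSS : br S S ≤ S := br_sp_self F
  refine (br_iSup_left _ _).trans (iSup_le fun i => (br_iSup_right _ _).trans (iSup_le fun j => ?_))
  have hinv : ∀ f i v, Inv φ (J f ⊓ F ⊓ preι i (ls S v)) := fun f i v =>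
    ((D.inv f).inf φ (inv_fixG φ _)).inf φ (inv_preι φ i (stable_ls φ (stable_sp φ (inv_fixG φ _)) v))
  refine br_img_mul D (hinv f i _) (hinv g j _) (inf_le_left.trans inf_le_left) (inf_le_left.trans inf_le_left)
    (Z := F ⊓ preι (i + j + 1) (ls S (v + w - 1))) ?_ ?_
  · intro x hx hx' y hy hy'
    refine ⟨?_, comm_mem hx' hy', ?_⟩
    · rw [commutatorElement_def]
      exact mul_mem (mul_mem (mul_mem hx.1.2 hy.1.2) (F.inv_mem hx.1.2))
        (F.inv_mem hy.1.2)
    · rw [← lie_ι hx' hy']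
      exact ls_antitone hSS (by omega : v + w - 1 ≤ v - 1 + (w - 1) + 1)
        (br_ls_ls S _ _ (lie_mem_br hx.2.2 hy.2.2))
  · intro h z hzh hz hz'
    exact AddSubgroup.mem_iSup_of_mem h (AddSubgroup.mem_iSup_of_mem (i + j + 1)
      (mem_img ⟨⟨hzh, hz.1⟩, hz.2⟩ hz'))

theorem Sg_gen (D : Specials φ p J c s) (a : A) :
    sp n (fixG φ (Subgroup.zpowers a)) ≤ ⨆ f, Sg φ J n a f 1 := by
  refine iSup_le fun k => (img_fix_le D a k).trans (iSup_le fun f => le_iSup_of_le f (le_iSup_of_le k ?_))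
  exact img_le fun y hy hy' => mem_img ⟨hy, hy', mem_sp hy.2 hy'⟩ hy'

theorem run_bot (D : Specials φ p J c s) (f : κ) : (ad (sp n (J f)))^[c + 1] (⊤ : AddSubgroup (Gr N n)) = ⊥ := by
  have htop : (⊤ : AddSubgroup (Gr N n)) ≤ ⨆ H : Hyp A p, sp n (fixG φ H.1) := by
    rw [← sp_top]
    refine iSup_le fun k => img_le fun y _ hy' => ?_
    exact ι_mem_of_hyp D (inv_lcsTop φ k) le_rfl
      (fun H x hx => AddSubgroup.mem_iSup_of_mem H (mem_sp hx.2 hx.1)) hy'
  have hH : ∀ H : Hyp A p, (ad (sp n (J f)))^[c + 1] (sp n (fixG φ H.1)) = ⊥ := by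
    intro H
    obtain ⟨b, hbH, -, Q, hQn, hQc, hJQ⟩ := D.act f H
    have hfix : fixG φ H.1 ≤ fixG φ (Subgroup.zpowers b) := fixG_antitone φ (Subgroup.zpowers_le.2 hbH)
    have key : ∀ t, (ad (sp n (J f)))^[t + 1] (sp n (fixG φ H.1)) ≤ sp n (Q.lowerCentralSeries t) := by
      intro t
      induction t with
      | zero =>
        refine br_sp_le fun i j x hx hx' y hy hy' => mem_sp ?_ (comm_mem hx' hy')
        rw [Subgroup.lowerCentralSeries_zero, commutatorElement_def]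
        exact mul_mem ((Subgroup.mem_normalizer_iff.1 (hQn (hfix hx)) y).1 (hJQ hy)) (inv_mem (hJQ hy))
      | succ t ih =>
        rw [Function.iterate_succ_apply']
        refine (br_mono ih le_rfl).trans (br_sp_le fun i j x hx hx' y hy hy' => mem_sp ?_ (comm_mem hx' hy'))
        rw [Subgroup.lowerCentralSeries_succ]
        exact Subgroup.commutator_mem_commutator hx (hJQ hy)
    exact le_bot_iff.1 ((key c).trans (by rw [hQc, sp_bot]))
  have hsup : ∀ t (X : Hyp A p → AddSubgroup (Gr N n)),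
      (ad (sp n (J f)))^[t] (⨆ H, X H) ≤ ⨆ H, (ad (sp n (J f)))^[t] (X H) := by
    intro t
    induction t with
    | zero => exact fun X => le_refl _
    | succ t ih =>
      intro X
      simp only [Function.iterate_succ_apply']
      exact (br_mono (ih X) le_rfl).trans (br_iSup_left _ _)
  refine le_bot_iff.1 ((ad_iterate_mono le_rfl htop _).trans ((hsup _ _).trans ?_))
  simp [hH]

end Engine

/-- The class bound of the engine. -/
def classBound (p M c s : ℕ) : ℕ :=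
  clb M (c + 1) (s + kg (M * (c + 1) * (clb M (c + 1) s + 1) + 1) (p - 1))

/-- A nilpotent group with special subgroups has bounded class. -/
theorem lcs_classBound {N : Type*} [Group N] [Finite N] [hN : Group.IsNilpotent N] {A : Type*} [CommGroup A]
    [Finite A] {φ : A →* MulAut N} {p : ℕ} [Fact p.Prime] {κ : Type*} [Fintype κ] {J : κ → Subgroup N} {c s : ℕ}
    (D : Specials φ p J c s) {a : A} (ha : a ≠ 1) :
    (⊤ : Subgroup N).lowerCentralSeries (classBound p (Fintype.card κ) c s) = ⊥ := by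
  set B := classBound p (Fintype.card κ) c s with hB
  obtain ⟨e, he⟩ := (Subgroup.nilpotent_iff_lowerCentralSeries (G := N)).1 hN
  set n := B + e + 1 with hn
  set S := sp n (fixG φ (Subgroup.zpowers a)) with hS
  have hkill : (ad S)^[Fintype.card κ * (c + 1) * (clb (Fintype.card κ) (c + 1) s + 1) + 1] ⊤ = ⊥ :=
    ad_iterate_top_eq_bot (Sg φ J n a) (fun f => sp n (J f)) (c + 1) (br_sp_self _) (Sg_mul D a)
      (Sg_le_sp a) (run_bot D) (Sg_gen D a) (Sg_le_ls a)
      (le_bot_iff.1 ((dl_sp_le _ s).trans (by rw [D.sol a ha, sp_bot])))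
  obtain ⟨m, hm⟩ := exists_inv (n := n) D
  have hder : dl (⊤ : AddSubgroup (Gr N n))
      (s + kg (Fintype.card κ * (c + 1) * (clb (Fintype.card κ) (c + 1) s + 1) + 1) (p - 1)) = ⊥ :=
    derived_bot (grMap (φ a).toMonoidHom) (grMap_lie _) (grMap_pow D a) m hm S
      (fun x hx => mem_sp_of_fixed D a hx) hkill
      (le_bot_iff.1 ((dl_sp_le _ s).trans (by rw [D.sol a ha, sp_bot])))
  have htop : sp n (fixG φ (Subgroup.zpowers (1 : A))) = ⊤ := by
    rw [Subgroup.zpowers_one_eq_bot, fixG_bot, sp_top]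
  have hls : ls (⊤ : AddSubgroup (Gr N n)) B = ⊥ := by
    have h := ls_clb_le (Sg φ J n 1) (fun f => sp n (J f)) (c + 1) (br_sp_self _) (Sg_mul D 1)
      (Sg_le_sp 1) (run_bot D) (Sg_gen D 1) (Sg_le_ls 1)
      (s + kg (Fintype.card κ * (c + 1) * (clb (Fintype.card κ) (c + 1) s + 1) + 1) (p - 1))
    rw [htop, hder] at h
    exact le_bot_iff.1 h
  have hsub : lcs N B ≤ lcs N (B + 1) := fun x hx => by
    refine mem_of_ι_eq_zero (c := n) (by omega) hx ?_
    have h : (ι B x : Gr N n) ∈ ls (⊤ : AddSubgroup (Gr N n)) B := ι_mem_lowerSeq B x hx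
    rw [hls] at h
    exact h
  have hstab : ∀ t, lcs N B ≤ lcs N (B + t) := by
    intro t
    induction t with
    | zero => exact le_rfl
    | succ t ih => exact hsub.trans (Subgroup.commutator_mono ih le_rfl)
  exact le_bot_iff.1 ((hstab e).trans ((lcs_le N (by omega)).trans he.le))

end Cfsg.Lib.CoprimeLie
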