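/-
A soluble group generated by special subgroups, each lying in a nilpotent subgroup normalised by a centraliser,
is nilpotent.
-/
import Cfsg.Agent.CoprimeLie.Action

set_option linter.unusedSectionVars false
set_option linter.style.haveILetI false

open scoped commutatorElement

namespace Cfsg.Lib.CoprimeLie

universe u v

/-- In a finite nilpotent group elements of coprime orders commute. -/
theorem commute_of_coprime_orderOf {K : Type*} [Group K] [Finite K] [hK : Group.IsNilpotent K] {x y : K}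
    (h : (orderOf x).Coprime (orderOf y)) : Commute x y := by
  obtain ⟨e⟩ := ((Group.isNilpotent_of_finite_tfae (G := K)).out 0 4).1 hK
  apply e.symm.injective
  rw [map_mul, map_mul]
  funext r
  funext P
  simp only [Pi.mul_apply]
  haveI : Fact (r : ℕ).Prime := ⟨Nat.prime_of_mem_primeFactors r.2⟩
  have hdiv : ∀ z : K, orderOf (e.symm z r P) ∣ orderOf z := fun z =>
    orderOf_map_dvd (((Pi.evalMonoidHom _ P).comp (Pi.evalMonoidHom _ r)).comp e.symm.toMonoidHom) z
  obtain ⟨i, hi⟩ := IsPGroup.iff_orderOf.1 P.2 (e.symm x r P)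
  obtain ⟨j, hj⟩ := IsPGroup.iff_orderOf.1 P.2 (e.symm y r P)
  rcases Nat.eq_zero_or_pos i with hi0 | hipos
  · subst hi0
    rw [pow_zero, orderOf_eq_one_iff] at hi
    rw [hi, one_mul, mul_one]
  rcases Nat.eq_zero_or_pos j with hj0 | hjpos
  · subst hj0
    rw [pow_zero, orderOf_eq_one_iff] at hj
    rw [hj, one_mul, mul_one]
  exfalso
  have h1 : (r : ℕ) ∣ orderOf x := (dvd_pow_self (r : ℕ) hipos.ne').trans (hi ▸ hdiv x)
  have h2 : (r : ℕ) ∣ orderOf y := (dvd_pow_self (r : ℕ) hjpos.ne').trans (hj ▸ hdiv y)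
  exact (Fact.out : (r : ℕ).Prime).ne_one (Nat.eq_one_of_dvd_coprimes h h1 h2)

/-- The action on a quotient by an invariant normal subgroup. -/
noncomputable def quotAct {N : Type*} [Group N] {A : Type*} [CommGroup A] (φ : A →* MulAut N) (V : Subgroup N)
    [V.Normal] (hV : Inv φ V) : A →* MulAut (N ⧸ V) where
  toFun a := QuotientGroup.congr V V (φ a) (le_antisymm (hV.map_le φ a) fun x hx =>
    ⟨φ a⁻¹ x, hV a⁻¹ x hx, show φ a (φ a⁻¹ x) = x by
      rw [← MulAut.mul_apply, ← map_mul, mul_inv_cancel, map_one, MulAut.one_apply]⟩)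
  map_one' := by
    refine MulEquiv.ext fun x => ?_
    induction x using QuotientGroup.induction_on with
    | H x => simp
  map_mul' a b := by
    refine MulEquiv.ext fun x => ?_
    induction x using QuotientGroup.induction_on with
    | H x => simp [MulAut.mul_apply]

theorem quotAct_mk {N : Type*} [Group N] {A : Type*} [CommGroup A] (φ : A →* MulAut N) (V : Subgroup N)
    [V.Normal] (hV : Inv φ V) (a : A) (x : N) : quotAct φ V hV a (x : N ⧸ V) = (φ a x : N ⧸ V) := rfl

section Central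

variable {N : Type u} [Group N] [Finite N] {A : Type v} [CommGroup A] [Finite A] (φ : A →* MulAut N) {p : ℕ}
  [Fact p.Prime] {κ : Type*}

theorem le_center_of_minimal (hA : ∀ a : A, a ^ p = 1) (hcop : (Nat.card N).Coprime p) [Group.IsSolvable N]
    {c : ℕ} (J : κ → Subgroup N) (hgen : ⨆ f, J f = ⊤)
    (hact : ∀ f (H : Hyp A p), ∃ b ∈ H.1, ∃ Q : Subgroup N,
      fixG φ (Subgroup.zpowers b) ≤ Subgroup.normalizer (Q : Set N) ∧ Q.lowerCentralSeries c = ⊥ ∧ J f ≤ Q)
    {V : Subgroup N} [V.Normal] (hV : Inv φ V) (hne : V ≠ ⊥)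
    (hmin : ∀ W : Subgroup N, W ≤ V → W.Normal → Inv φ W → W ≠ ⊥ → V ≤ W)
    [hQ : Group.IsNilpotent (N ⧸ V)] : V ≤ Subgroup.center N := by
  -- `V` is abelian
  have hab : ∀ x ∈ V, ∀ y ∈ V, x * y = y * x := by
    have h0 : ⁅V, V⁆ = ⊥ := by
      by_contra h
      have hle : ⁅V, V⁆ ≤ V := Subgroup.commutator_le_left V V
      have hVV : V ≤ ⁅V, V⁆ := hmin _ hle inferInstance (hV.commutator φ hV) h
      have hall : ∀ j, V ≤ dser (⊤ : Subgroup N) j := by
        intro j
        induction j with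
        | zero => exact le_top
        | succ j ih => rw [dser_succ]; exact hVV.trans (Subgroup.commutator_mono ih ih)
      obtain ⟨j, hj⟩ := Group.IsSolvable.solvable (G := N)
      have hd : ∀ j, dser (⊤ : Subgroup N) j ≤ derivedSeries N j := by
        intro j
        induction j with
        | zero => exact le_rfl
        | succ j ih => rw [dser_succ, derivedSeries_succ]; exact Subgroup.commutator_mono ih ih
      exact hne (le_bot_iff.1 ((hall j).trans ((hd j).trans hj.le)))
    exact fun x hx y hy => commutatorElement_eq_one_iff_mul_comm.1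
      (Subgroup.mem_bot.1 (h0 ▸ Subgroup.commutator_mem_commutator hx hy))
  -- of prime exponent
  haveI : Nontrivial V := (Subgroup.nontrivial_iff_ne_bot V).2 hne
  obtain ⟨q, hq, hqV⟩ := Nat.exists_prime_and_dvd (Finite.one_lt_card : 1 < Nat.card V).ne'
  haveI : Fact q.Prime := ⟨hq⟩
  let Ω : Subgroup N :=
    { carrier := {v | v ∈ V ∧ v ^ q = 1}
      one_mem' := ⟨one_mem _, one_pow q⟩
      mul_mem' := fun {x y} hx hy => ⟨mul_mem hx.1 hy.1, by
        rw [(show Commute x y from hab x hx.1 y hy.1).mul_pow, hx.2, hy.2, one_mul]⟩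
      inv_mem' := fun {x} hx => ⟨inv_mem hx.1, by rw [inv_pow, hx.2, inv_one]⟩ }
  haveI : Ω.Normal := ⟨fun v hv g => ⟨Subgroup.Normal.conj_mem ‹V.Normal› v hv.1 g, by
    rw [conj_pow, hv.2, mul_one, mul_inv_cancel]⟩⟩
  have hΩne : Ω ≠ ⊥ := by
    obtain ⟨v, hv⟩ := exists_prime_orderOf_dvd_card' q hqV
    intro h
    have hv1 : (v : N) ^ q = 1 := by rw [← hv, ← Subgroup.coe_pow, pow_orderOf_eq_one, Subgroup.coe_one]
    have h1 : (v : N) ∈ (⊥ : Subgroup N) := h ▸ (⟨v.2, hv1⟩ : (v : N) ∈ Ω)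
    rw [Subgroup.mem_bot] at h1
    have h2 : orderOf v = 1 := orderOf_eq_one_iff.2 (Subtype.ext h1)
    exact hq.ne_one (hv ▸ h2)
  have hexp : ∀ v ∈ V, v ^ q = 1 := fun v hv =>
    ((hmin Ω (fun _ h => h.1) inferInstance (fun a x hx => ⟨hV a x hx.1, by rw [← map_pow, hx.2, map_one]⟩) hΩne)
      hv).2
  -- elements of coprime order in the special subgroups centralise `V`
  set C := Subgroup.centralizer (V : Set N) with hC
  have hVC : V ≤ C := fun x hx => Subgroup.mem_centralizer_iff.2 fun y hy => hab y hy x hx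
  have hcent : ∀ f, ∀ x ∈ J f, (orderOf x).Coprime q → x ∈ C := by
    intro f x hx hord
    have hle : V ≤ Subgroup.centralizer {x} := by
      refine (le_iSup_fixG φ hA hcop hV).trans (iSup_le fun H v hv => ?_)
      obtain ⟨b, hb, Q, hQn, hQc, hJQ⟩ := hact f H
      haveI : Group.IsNilpotent Q := Subgroup.isNilpotent_of_lowerCentralSeries_eq_bot hQc
      have hvQ : v ∈ Subgroup.normalizer (Q : Set N) :=
        hQn (fixG_antitone φ (Subgroup.zpowers_le.2 hb) hv.2)
      set u := x * v * x⁻¹ * v⁻¹ with hu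
      have huV : u ∈ V := mul_mem (Subgroup.Normal.conj_mem ‹V.Normal› v hv.1 x) (V.inv_mem hv.1)
      have huQ : u ∈ Q := by
        rw [show u = x * (v * x⁻¹ * v⁻¹) by rw [hu]; group]
        exact mul_mem (hJQ hx) ((Subgroup.mem_normalizer_iff.1 hvQ _).1 (inv_mem (hJQ hx)))
      have huq : u ^ q = 1 := hexp u huV
      have hxu : x * u = u * x := by
        have hcomm : Commute (⟨x, hJQ hx⟩ : Q) ⟨u, huQ⟩ := commute_of_coprime_orderOf (by
          rw [Subgroup.orderOf_mk, Subgroup.orderOf_mk]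
          exact hord.coprime_dvd_right (orderOf_dvd_of_pow_eq_one huq))
        exact congrArg Subtype.val hcomm.eq
      have hiter : ∀ n : ℕ, x ^ n * v * (x ^ n)⁻¹ = u ^ n * v := by
        intro n
        induction n with
        | zero => simp
        | succ n ih =>
          have hx1 : x * v * x⁻¹ = u * v := by rw [hu]; group
          have hc : x * u ^ n = u ^ n * x := (show Commute x u from hxu).pow_right n
          calc x ^ (n + 1) * v * (x ^ (n + 1))⁻¹ = x * (x ^ n * v * (x ^ n)⁻¹) * x⁻¹ := by rw [pow_succ']; group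
            _ = x * u ^ n * v * x⁻¹ := by rw [ih]; group
            _ = u ^ n * (x * v * x⁻¹) := by rw [hc]; group
            _ = _ := by rw [hx1, pow_succ]; group
      have hu1 : u = 1 := by
        have h1 := hiter (orderOf x)
        rw [pow_orderOf_eq_one, one_mul, inv_one, mul_one] at h1
        have h2 : u ^ Nat.gcd (orderOf x) q = 1 := pow_gcd_eq_one.2 ⟨mul_eq_right.1 h1.symm, huq⟩
        rwa [hord.gcd_eq_one, pow_one] at h2
      rw [hu, mul_inv_eq_one, mul_inv_eq_iff_eq_mul] at hu1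
      exact Subgroup.mem_centralizer_singleton_iff.2 hu1.symm
    exact Subgroup.mem_centralizer_iff.2 fun v hv => (Subgroup.mem_centralizer_singleton_iff.1 (hle hv)).symm ▸ rfl
  -- the quotient is a `q`-group
  haveI : Group.IsNilpotent (N ⧸ C) := Group.nilpotent_of_surjective
    (QuotientGroup.map V C (MonoidHom.id N) hVC) (fun y => by
      induction y using QuotientGroup.induction_on with
      | H y => exact ⟨(y : N ⧸ V), rfl⟩)
  obtain ⟨P⟩ : Nonempty (Sylow q (N ⧸ C)) := inferInstance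
  have hPn : (P : Subgroup (N ⧸ C)).Normal := by
    have h := (Group.isNilpotent_of_finite_tfae (G := N ⧸ C)).out 0 3
    exact h.1 ‹Group.IsNilpotent (N ⧸ C)› q ⟨hq⟩ P
  have hPtop : (P : Subgroup (N ⧸ C)) = ⊤ := by
    refine top_unique ?_
    rw [← Subgroup.map_top_of_surjective _ (QuotientGroup.mk'_surjective C), ← hgen, Subgroup.map_iSup]
    refine iSup_le fun f => ?_
    rintro _ ⟨x, hx, rfl⟩
    obtain ⟨e, m, hm, hem⟩ := Nat.exists_eq_pow_mul_and_not_dvd (orderOf_pos x).ne' q hq.ne_one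
    have hxe : x ^ q ^ e ∈ C := by
      refine hcent f _ (pow_mem hx _) ((hq.coprime_iff_not_dvd.2 hm).symm.coprime_dvd_left ?_)
      exact orderOf_dvd_of_pow_eq_one (by rw [← pow_mul, ← hem, pow_orderOf_eq_one])
    have hz : IsPGroup q (Subgroup.zpowers (QuotientGroup.mk' C x)) := by
      rintro ⟨z, hz⟩
      obtain ⟨i, rfl⟩ := Subgroup.mem_zpowers_iff.1 hz
      refine ⟨e, Subtype.ext ?_⟩
      show ((QuotientGroup.mk' C x) ^ i) ^ q ^ e = 1
      rw [← zpow_natCast, ← zpow_mul, mul_comm, zpow_mul, zpow_natCast, ← map_pow, QuotientGroup.mk'_apply,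
        (QuotientGroup.eq_one_iff _).2 hxe, one_zpow]
    obtain ⟨P', hP'⟩ := hz.exists_le_sylow
    haveI := Sylow.unique_of_normal P hPn
    exact Subsingleton.elim P' P ▸ hP' (Subgroup.mem_zpowers _)
  -- a Sylow subgroup has a fixed point on `V`
  obtain ⟨R⟩ : Nonempty (Sylow q N) := inferInstance
  have hRC : (R : Subgroup N) ⊔ C = ⊤ := by
    rw [← Subgroup.index_eq_one]
    have hRi : ((R : Subgroup N) ⊔ C).index ∣ (R : Subgroup N).index := Subgroup.index_dvd_of_le le_sup_left
    obtain ⟨i, hi⟩ : ∃ i, C.index = q ^ i := by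
      obtain ⟨i, hi⟩ := IsPGroup.iff_card.1 P.2
      rw [hPtop, Nat.card_congr Subgroup.topEquiv.toEquiv] at hi
      exact ⟨i, hi⟩
    have hCi : ((R : Subgroup N) ⊔ C).index ∣ q ^ i := hi ▸ Subgroup.index_dvd_of_le le_sup_right
    exact Nat.eq_one_of_dvd_coprimes ((hq.coprime_iff_not_dvd.2 R.not_dvd_index).pow_left i) hCi hRi
  letI : MulAction R V := MulAction.compHom V ((MulAut.conjNormal (H := V)).comp (R : Subgroup N).subtype)
  have h1fix : (1 : V) ∈ MulAction.fixedPoints R V := fun r =>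
    map_one (MulAut.conjNormal (H := V) (r : N))
  obtain ⟨v₀, hv₀, hne1⟩ := R.2.exists_fixed_point_of_prime_dvd_card_of_fixed_point V hqV h1fix
  have hv₀c : (v₀ : N) ∈ Subgroup.center N := by
    have hle : (R : Subgroup N) ⊔ C ≤ Subgroup.centralizer {(v₀ : N)} := by
      refine sup_le (fun r hr => ?_) fun x hx => ?_
      · have h := congrArg Subtype.val (hv₀ ⟨r, hr⟩)
        exact Subgroup.mem_centralizer_singleton_iff.2 (mul_inv_eq_iff_eq_mul.1 h)
      · exact Subgroup.mem_centralizer_singleton_iff.2 (Subgroup.mem_centralizer_iff.1 hx _ v₀.2).symm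
    rw [hRC] at hle
    exact Subgroup.mem_center_iff.2 fun g => Subgroup.mem_centralizer_singleton_iff.1 (hle (Subgroup.mem_top g))
  have hinvZ : Inv φ (V ⊓ Subgroup.center N) := fun a x hx => ⟨hV a x hx.1, Subgroup.mem_center_iff.2 fun g => by
    have := congrArg (φ a) (Subgroup.mem_center_iff.1 hx.2 ((φ a).symm g))
    rwa [map_mul, map_mul, MulEquiv.apply_symm_apply] at this⟩
  refine (hmin (V ⊓ Subgroup.center N) inf_le_left inferInstance hinvZ fun h => hne1 ?_).trans inf_le_right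
  have : (v₀ : N) ∈ (⊥ : Subgroup N) := h ▸ ⟨v₀.2, hv₀c⟩
  exact Subtype.ext (Subgroup.mem_bot.1 this).symm

end Central

theorem isNilpotent_of_act_aux {A : Type v} [CommGroup A] [Finite A] {p : ℕ} [Fact p.Prime]
    (hA : ∀ a : A, a ^ p = 1) {κ : Type*} (c : ℕ) :
    ∀ (n : ℕ) (N : Type u) [Group N] [Finite N] [Group.IsSolvable N], Nat.card N = n →
      ∀ φ : A →* MulAut N, (Nat.card N).Coprime p → ∀ J : κ → Subgroup N, ⨆ f, J f = ⊤ →
        (∀ f (H : Hyp A p), ∃ b ∈ H.1, ∃ Q : Subgroup N,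
          fixG φ (Subgroup.zpowers b) ≤ Subgroup.normalizer (Q : Set N) ∧ Q.lowerCentralSeries c = ⊥ ∧ J f ≤ Q) →
        Group.IsNilpotent N := by
  intro n
  induction n using Nat.strong_induction_on with
  | _ n ih =>
  intro N _ _ _ hn φ hcop J hgen hact
  by_cases htriv : (⊤ : Subgroup N) = ⊥
  · exact Subgroup.nilpotent_iff_lowerCentralSeries.2 ⟨0, htriv⟩
  obtain ⟨V, ⟨hVn, hV, hne⟩, hmin⟩ := (Set.toFinite {V : Subgroup N | V.Normal ∧ Inv φ V ∧ V ≠ ⊥}).exists_minimal
    ⟨⊤, inferInstance, inv_top φ, htriv⟩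
  haveI := hVn
  have hnil : Group.IsNilpotent (N ⧸ V) := by
    refine ih (Nat.card (N ⧸ V)) ?_ (N ⧸ V) rfl (quotAct φ V hV) ?_ (fun f => (J f).map (QuotientGroup.mk' V)) ?_ ?_
    · rw [← hn, Subgroup.card_eq_card_quotient_mul_card_subgroup V]
      exact lt_mul_of_one_lt_right Nat.card_pos ((Subgroup.one_lt_card_iff_ne_bot V).2 hne)
    · exact Nat.Coprime.coprime_dvd_left (Subgroup.card_quotient_dvd_card V) hcop
    · rw [← Subgroup.map_iSup, hgen, Subgroup.map_top_of_surjective _ (QuotientGroup.mk'_surjective V)]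
    · intro f H
      obtain ⟨b, hb, Q, hQn, hQc, hJQ⟩ := hact f H
      refine ⟨b, hb, Q.map (QuotientGroup.mk' V), ?_, by rw [← Subgroup.map_lowerCentralSeries, hQc, Subgroup.map_bot],
        Subgroup.map_mono hJQ⟩
      intro y hy
      induction y using QuotientGroup.induction_on with
      | H y =>
        obtain ⟨k, hk, hyk⟩ := exists_fixed φ hA hcop (Subgroup.zpowers b) hV (x := y) fun t ht =>
          QuotientGroup.eq.1 ((quotAct_mk φ V hV t y).symm.trans (hy t ht)).symm
        refine Subgroup.le_normalizer_map _ ⟨y * k, hQn hyk, ?_⟩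
        show ((y * k : N) : N ⧸ V) = y
        exact QuotientGroup.eq.2 (by rw [mul_inv_rev, inv_mul_cancel_right]; exact V.inv_mem hk)
  have hcen : V ≤ Subgroup.center N := le_center_of_minimal φ hA hcop J hgen hact hV hne
    fun W hW hWn hWi hWne => hmin ⟨hWn, hWi, hWne⟩ hW
  exact Subgroup.isNilpotent_of_ker_le_center (QuotientGroup.mk' V) (by rw [QuotientGroup.ker_mk']; exact hcen)

/-- The nilpotency criterion. -/
theorem isNilpotent_of_act {N : Type u} [Group N] [Finite N] [Group.IsSolvable N] {A : Type v} [CommGroup A]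
    [Finite A] (φ : A →* MulAut N) {p : ℕ} [Fact p.Prime] (hA : ∀ a : A, a ^ p = 1)
    (hcop : (Nat.card N).Coprime p) {κ : Type*} {c : ℕ} (J : κ → Subgroup N) (hgen : ⨆ f, J f = ⊤)
    (hact : ∀ f (H : Hyp A p), ∃ b ∈ H.1, ∃ Q : Subgroup N,
      fixG φ (Subgroup.zpowers b) ≤ Subgroup.normalizer (Q : Set N) ∧ Q.lowerCentralSeries c = ⊥ ∧ J f ≤ Q) :
    Group.IsNilpotent N :=
  isNilpotent_of_act_aux hA c _ N rfl φ hcop J hgen hact

end Cfsg.Lib.CoprimeLie
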