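/-
The special subgroups of a coprime action: in degree `i` they generate the `i`-th term of the derived series or
of the lower central series.
-/
import Cfsg.Agent.CoprimeLie.Action

set_option linter.unusedSectionVars false
set_option linter.style.haveILetI false

open scoped commutatorElement

namespace Cfsg.Lib.CoprimeLie

variable {G : Type*} [Group G]

/-- The derived series for `σ = true`, the lower central series for `σ = false`. -/
def term (σ : Bool) (C : Subgroup G) : ℕ → Subgroup G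
  | 0 => C
  | i + 1 => ⁅term σ C i, if σ then term σ C i else C⁆

theorem term_mono {σ : Bool} {C C' : Subgroup G} (h : C ≤ C') : ∀ i, term σ C i ≤ term σ C' i
  | 0 => h
  | i + 1 => by
    refine Subgroup.commutator_mono (term_mono h i) ?_
    cases σ
    · exact h
    · exact term_mono h i

theorem term_le_normalizer (σ : Bool) (C : Subgroup G) : ∀ i, C ≤ Subgroup.normalizer (term σ C i : Set G)
  | 0 => Subgroup.le_normalizer
  | i + 1 => by
    refine fun x hx => Cfsg.Lib.Coprime.conjMap_eq_self_iff.1 ?_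
    show (⁅term σ C i, if σ then term σ C i else C⁆).map (MulAut.conj x).toMonoidHom = ⁅term σ C i, if σ then term σ C i else C⁆
    have h1 : (term σ C i).map (MulAut.conj x).toMonoidHom = term σ C i :=
      Cfsg.Lib.Coprime.conjMap_eq_self (term_le_normalizer σ C i hx)
    have h2 : C.map (MulAut.conj x).toMonoidHom = C :=
      Cfsg.Lib.Coprime.conjMap_eq_self (Subgroup.le_normalizer hx)
    rw [Subgroup.map_commutator, h1]
    cases σ
    · rw [if_neg Bool.false_ne_true, h2]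
    · rw [if_pos rfl, h1]

theorem dser_le_term (σ : Bool) (C : Subgroup G) : ∀ i, dser C i ≤ term σ C i ∧ term σ C i ≤ C
  | 0 => ⟨le_refl C, le_refl C⟩
  | i + 1 => by
    obtain ⟨h1, h2⟩ := dser_le_term σ C i
    rw [dser_succ]
    refine ⟨Subgroup.commutator_mono h1 ?_, ?_⟩
    · cases σ
      · exact h1.trans h2
      · exact h1
    · refine (Subgroup.commutator_mono h2 ?_).trans (Subgroup.lowerCentralSeries_le_self C 1)
      cases σ
      · exact le_refl C
      · exact h2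

theorem dser_le_lcs (C : Subgroup G) : ∀ i, dser C i ≤ C.lowerCentralSeries i
  | 0 => le_refl C
  | i + 1 => by
    rw [dser_succ, Subgroup.lowerCentralSeries_succ]
    exact Subgroup.commutator_mono (dser_le_lcs C i) ((dser_le_term true C i).1.trans (dser_le_term true C i).2)

theorem dser_eq_bot {σ : Bool} {C : Subgroup G} {d c : ℕ} (h : (term σ C d).lowerCentralSeries c = ⊥) :
    dser C (c + d) = ⊥ := by
  rw [dser, Function.iterate_add_apply]
  exact le_bot_iff.1 (((dser_mono (dser_le_term σ C d).1 c).trans (dser_le_lcs _ c)).trans h.le)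

theorem isSolvable_of_dser_eq_bot {C : Subgroup G} {n : ℕ} (h : dser C n = ⊥) : Group.IsSolvable C := by
  refine ⟨⟨n, ?_⟩⟩
  have key : ∀ j, (derivedSeries C j).map C.subtype = dser C j := by
    intro j
    induction j with
    | zero => rw [derivedSeries_zero, ← MonoidHom.range_eq_map, Subgroup.range_subtype]; rfl
    | succ j ih => rw [derivedSeries_succ, dser_succ, Subgroup.map_commutator, ih]
  rw [← Subgroup.map_subtype_inj, key n, h, Subgroup.map_bot]

variable {A : Type*} [CommGroup A] (φ : A →* MulAut G)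

theorem inv_term (σ : Bool) {C : Subgroup G} (hC : Inv φ C) : ∀ i, Inv φ (term σ C i)
  | 0 => hC
  | i + 1 => by
    refine (inv_term σ hC i).commutator φ ?_
    cases σ
    · exact hC
    · exact inv_term true hC i

/-- The exponent of the index of the subgroups attached to the special subgroups. -/
def expo : Bool → ℕ → ℕ
  | true, i => 2 ^ i
  | false, i => i + 1

theorem expo_zero (σ : Bool) : expo σ 0 = 1 := by cases σ <;> rfl

theorem expo_succ (σ : Bool) (i : ℕ) : expo σ (i + 1) = expo σ i + if σ then expo σ i else 1 := by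
  cases σ
  · rfl
  · simp [expo, pow_succ, mul_two]

/-- A bound for the number of special subgroups. -/
def levBound (σ : Bool) (h : ℕ) : ℕ → ℕ
  | 0 => h
  | i + 1 => levBound σ h i * (if σ then levBound σ h i else h) * h

variable [Finite A] (p : ℕ)

open scoped Classical in
/-- The special subgroups of degree `0`. -/
noncomputable def lev0 : Finset (Subgroup G) :=
  haveI := Fintype.ofFinite (Hyp A p)
  Finset.univ.image fun H : Hyp A p => fixG φ H.1

open scoped Classical in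
/-- The special subgroups. -/
noncomputable def lev (σ : Bool) : ℕ → Finset (Subgroup G)
  | 0 => lev0 φ p
  | i + 1 =>
    haveI := Fintype.ofFinite (Hyp A p)
    ((lev σ i ×ˢ (if σ then lev σ i else lev0 φ p)) ×ˢ Finset.univ).image
      fun q : (Subgroup G × Subgroup G) × Hyp A p => ⁅q.1.1, q.1.2⁆ ⊓ fixG φ q.2.1

variable {p}

/-- The second factor of a step. -/
noncomputable def partner (p : ℕ) (σ : Bool) (i : ℕ) : Finset (Subgroup G) := if σ then lev φ p σ i else lev0 φ p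

theorem mem_lev0 {J : Subgroup G} : J ∈ lev0 φ p ↔ ∃ H : Hyp A p, fixG φ H.1 = J := by
  simp [lev0]

theorem mem_lev_succ {σ : Bool} {i : ℕ} {J : Subgroup G} : J ∈ lev φ p σ (i + 1) ↔
    ∃ J₁ ∈ lev φ p σ i, ∃ J₂ ∈ partner φ p σ i, ∃ H : Hyp A p, ⁅J₁, J₂⁆ ⊓ fixG φ H.1 = J := by
  simp only [lev, partner, Finset.mem_image, Finset.mem_product, Finset.mem_univ, and_true]
  constructor
  · rintro ⟨⟨⟨a, b⟩, H⟩, ⟨ha, hb⟩, rfl⟩; exact ⟨a, ha, b, hb, H, rfl⟩
  · rintro ⟨a, ha, b, hb, H, rfl⟩; exact ⟨⟨⟨a, b⟩, H⟩, ⟨ha, hb⟩, rfl⟩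

theorem card_lev_le (σ : Bool) : ∀ i, (lev φ p σ i).card ≤ levBound σ (Nat.card (Hyp A p)) i
  | 0 => by
    classical
    letI := Fintype.ofFinite (Hyp A p)
    rw [levBound, Nat.card_eq_fintype_card, lev, lev0]
    exact Finset.card_image_le.trans (le_of_eq (by convert Finset.card_univ))
  | i + 1 => by
    classical
    letI := Fintype.ofFinite (Hyp A p)
    have h0 := card_lev_le σ 0
    have hi := card_lev_le σ i
    rw [levBound, lev]
    refine Finset.card_image_le.trans ?_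
    rw [Finset.card_product, Finset.card_product]
    refine Nat.mul_le_mul (Nat.mul_le_mul hi ?_) (le_of_eq (by rw [Finset.card_univ, Nat.card_eq_fintype_card]))
    cases σ
    · exact h0
    · exact hi

theorem lev_inv (σ : Bool) : ∀ i, ∀ J ∈ lev φ p σ i, Inv φ J
  | 0 => fun J hJ => by
    obtain ⟨H, rfl⟩ := (mem_lev0 φ).1 hJ
    exact inv_fixG φ _
  | i + 1 => fun J hJ => by
    obtain ⟨a, ha, b, hb, H, rfl⟩ := (mem_lev_succ φ).1 hJ
    refine ((lev_inv σ i a ha).commutator φ ?_).inf φ (inv_fixG φ _)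
    cases σ
    · exact lev_inv false 0 b hb
    · exact lev_inv true i b hb

theorem lev_below_succ (σ : Bool) : ∀ i, ∀ J ∈ lev φ p σ (i + 1), ∃ J' ∈ lev φ p σ i, J ≤ J'
  | 0 => fun J hJ => by
    obtain ⟨a, ha, b, hb, H, rfl⟩ := (mem_lev_succ φ).1 hJ
    exact ⟨_, (mem_lev0 φ).2 ⟨H, rfl⟩, inf_le_right⟩
  | i + 1 => fun J hJ => by
    obtain ⟨a, ha, b, hb, H, rfl⟩ := (mem_lev_succ φ).1 hJ
    obtain ⟨a', ha', hle⟩ := lev_below_succ σ i a ha
    obtain ⟨b', hb', hle'⟩ : ∃ b' ∈ partner φ p σ i, b ≤ b' := by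
      cases σ
      · exact ⟨b, hb, le_rfl⟩
      · exact lev_below_succ true i b hb
    exact ⟨_, (mem_lev_succ φ).2 ⟨a', ha', b', hb', H, rfl⟩, inf_le_inf_right _ (Subgroup.commutator_mono hle hle')⟩

theorem lev_below (σ : Bool) : ∀ i, ∀ J ∈ lev φ p σ i, ∃ J' ∈ lev0 φ p, J ≤ J'
  | 0 => fun J hJ => ⟨J, hJ, le_rfl⟩
  | i + 1 => fun J hJ => by
    obtain ⟨J', hJ', h⟩ := lev_below_succ φ σ i J hJ
    obtain ⟨J'', hJ'', h'⟩ := lev_below σ i J' hJ'
    exact ⟨J'', hJ'', h.trans h'⟩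

theorem lev_below_partner (σ : Bool) (i : ℕ) : ∀ J ∈ lev φ p σ i, ∃ J' ∈ partner φ p σ i, J ≤ J' := fun J hJ => by
  cases σ
  · exact lev_below φ false i J hJ
  · exact ⟨J, hJ, le_rfl⟩

variable [hp : Fact p.Prime]

/-- A special subgroup is fixed by a large subgroup of `A`, inside the terms of the centralisers. -/
theorem lev_term (σ : Bool) : ∀ i, ∀ J ∈ lev φ p σ i, ∃ D : Subgroup A, D.index ≤ p ^ expo σ i ∧
    ∀ b ∈ D, J ≤ term σ (fixG φ (Subgroup.zpowers b)) i
  | 0 => fun J hJ => by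
    obtain ⟨H, rfl⟩ := (mem_lev0 φ).1 hJ
    refine ⟨H.1, ?_, fun b hb => fixG_antitone φ (Subgroup.zpowers_le.2 hb)⟩
    rw [expo_zero, pow_one]
    exact Nat.le_of_dvd hp.out.pos H.2
  | i + 1 => fun J hJ => by
    obtain ⟨a, ha, b, hb, H, rfl⟩ := (mem_lev_succ φ).1 hJ
    obtain ⟨D, hD, hDa⟩ := lev_term σ i a ha
    obtain ⟨D', hD', hDb⟩ : ∃ D' : Subgroup A, D'.index ≤ p ^ (if σ then expo σ i else 1) ∧
        (∀ x ∈ D', b ≤ (if σ then term σ (fixG φ (Subgroup.zpowers x)) i else fixG φ (Subgroup.zpowers x))) := by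
      cases σ
      · obtain ⟨D', h1, h2⟩ := lev_term false 0 b hb
        exact ⟨D', by simpa [expo_zero] using h1, fun x hx => h2 x hx⟩
      · obtain ⟨D', h1, h2⟩ := lev_term true i b hb
        exact ⟨D', by simpa using h1, fun x hx => h2 x hx⟩
    refine ⟨D ⊓ D', ?_, fun x hx => inf_le_left.trans (Subgroup.commutator_mono (hDa x hx.1) (hDb x hx.2))⟩
    rw [expo_succ, pow_add]
    exact Subgroup.index_inf_le.trans (Nat.mul_le_mul hD hD')

variable [Finite G]

theorem commutator_iSup_le {κ μ : Type*} (J : κ → Subgroup G) (F : μ → Subgroup G) {K : Subgroup G}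
    (hle : ∀ f g, ⁅J f, F g⁆ ≤ K) (hJ : ∀ f, J f ≤ Subgroup.normalizer (K : Set G))
    (hF : ∀ g, F g ≤ Subgroup.normalizer (K : Set G)) : ⁅⨆ f, J f, ⨆ g, F g⁆ ≤ K := by
  have key : ∀ x ∈ ⨆ f, J f, x ∈ Subgroup.normalizer (K : Set G) ∧ ∀ g, ∀ y ∈ F g, ⁅x, y⁆ ∈ K := by
    intro x hx
    refine Subgroup.iSup_induction J
      (C := fun x => x ∈ Subgroup.normalizer (K : Set G) ∧ ∀ g, ∀ y ∈ F g, ⁅x, y⁆ ∈ K) hx
      (fun f x hx => ⟨hJ f hx, fun g y hy => hle f g (Subgroup.commutator_mem_commutator hx hy)⟩)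
      ⟨one_mem _, fun g y _ => by rw [commutatorElement_one_left]; exact one_mem _⟩
      (fun x x' hx hx' => ⟨mul_mem hx.1 hx'.1, fun g y hy => ?_⟩)
    rw [show ⁅x * x', y⁆ = x * ⁅x', y⁆ * x⁻¹ * ⁅x, y⁆ by simp [commutatorElement_def, mul_assoc]]
    exact mul_mem ((Subgroup.mem_normalizer_iff.1 hx.1 _).1 (hx'.2 g y hy)) (hx.2 g y hy)
  refine Subgroup.commutator_le.2 fun x hx y hy => ?_
  refine (Subgroup.iSup_induction F
    (C := fun y => y ∈ Subgroup.normalizer (K : Set G) ∧ ⁅x, y⁆ ∈ K) hy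
    (fun g y hy => ⟨hF g hy, (key x hx).2 g y hy⟩)
    ⟨one_mem _, by rw [commutatorElement_one_right]; exact one_mem _⟩
    (fun y y' hy hy' => ⟨mul_mem hy.1 hy'.1, ?_⟩)).2
  rw [show ⁅x, y * y'⁆ = ⁅x, y⁆ * (y * ⁅x, y'⁆ * y⁻¹) by simp [commutatorElement_def, mul_assoc]]
  exact mul_mem hy.2 ((Subgroup.mem_normalizer_iff.1 hy.1 _).1 hy'.2)

/-- The special subgroups generate. -/
theorem iSup_lev (hA : ∀ a : A, a ^ p = 1) (hcop : (Nat.card G).Coprime p) (σ : Bool) :
    ∀ i, (⨆ J : lev φ p σ i, (J : Subgroup G)) = term σ ⊤ i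
  | 0 => by
    refine eq_top_iff.2 ((le_iSup_fixG φ hA hcop (inv_top φ)).trans (iSup_le fun H => ?_))
    exact inf_le_right.trans (le_iSup_of_le ⟨_, (mem_lev0 φ).2 ⟨H, rfl⟩⟩ le_rfl)
  | i + 1 => by
    have hi := iSup_lev hA hcop σ i
    have hP : (⨆ J : partner φ p σ i, (J : Subgroup G)) = if σ then term σ ⊤ i else ⊤ := by
      cases σ
      · exact iSup_lev hA hcop false 0
      · exact hi
    refine le_antisymm (iSup_le fun ⟨J, hJ⟩ => ?_) ?_
    · obtain ⟨a, ha, b, hb, H, rfl⟩ := (mem_lev_succ φ).1 hJ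
      refine inf_le_left.trans (Subgroup.commutator_mono ?_ ?_)
      · rw [← hi]; exact le_iSup_of_le ⟨a, ha⟩ le_rfl
      · rw [← hP]; exact le_iSup_of_le ⟨b, hb⟩ le_rfl
    set K := ⨆ J : lev φ p σ (i + 1), (J : Subgroup G) with hK
    have hle : ∀ a ∈ lev φ p σ i, ∀ b ∈ partner φ p σ i, ⁅a, b⁆ ≤ K := by
      intro a ha b hb
      have hb' : Inv φ b := by
        cases σ
        · exact lev_inv φ false 0 b hb
        · exact lev_inv φ true i b hb
      refine (le_iSup_fixG φ hA hcop ((lev_inv φ σ i a ha).commutator φ hb')).trans (iSup_le fun H => ?_)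
      exact le_iSup_of_le ⟨_, (mem_lev_succ φ).2 ⟨a, ha, b, hb, H, rfl⟩⟩ le_rfl
    have hnorm : ∀ b ∈ partner φ p σ i, b ≤ Subgroup.normalizer (K : Set G) := by
      intro b hb
      have key : ∀ y ∈ b, ∀ x ∈ K, y * x * y⁻¹ ∈ K := by
        intro y hy x hx
        refine Subgroup.iSup_induction (fun J : lev φ p σ (i + 1) => (J : Subgroup G))
          (C := fun x => y * x * y⁻¹ ∈ K) hx ?_ (by simp) ?_
        · intro J x hx
          obtain ⟨a, ha, hJa⟩ := lev_below_succ φ σ i _ J.2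
          have h1 : x ∈ K := Subgroup.mem_iSup_of_mem J hx
          have h2 : ⁅x, y⁆ ∈ K := hle a ha b hb (Subgroup.commutator_mem_commutator (hJa hx) hy)
          rw [show y * x * y⁻¹ = ⁅x, y⁆⁻¹ * x by simp [commutatorElement_def, mul_assoc]]
          exact mul_mem (inv_mem h2) h1
        · intro x x' hx hx'
          rw [show y * (x * x') * y⁻¹ = y * x * y⁻¹ * (y * x' * y⁻¹) by group]
          exact mul_mem hx hx'
      exact fun y hy => Cfsg.Lib.Coprime.mem_normalizer_of_conj_mem (key y hy)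
        fun x hx => by simpa using key y⁻¹ (b.inv_mem hy) x hx
    show ⁅term σ ⊤ i, if σ then term σ ⊤ i else ⊤⁆ ≤ K
    rw [← hP, ← hi]
    exact commutator_iSup_le _ _ (fun a b => hle a a.2 b b.2)
      (fun a => by
        obtain ⟨b, hb, hab⟩ := lev_below_partner φ σ i a a.2
        exact hab.trans (hnorm b hb))
      (fun b => hnorm b b.2)

theorem lev_mul (σ : Bool) (d : ℕ) {J K : Subgroup G} (hJ : J ∈ lev φ p σ d) (hK : K ∈ lev φ p σ d) (H : Hyp A p) :
    ∃ h ∈ lev φ p σ d, ⁅J, K⁆ ⊓ fixG φ H.1 ≤ h := by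
  obtain ⟨K', hK', hle⟩ := lev_below_partner φ σ d K hK
  obtain ⟨h, hh, hle'⟩ := lev_below_succ φ σ d _ ((mem_lev_succ φ).2 ⟨J, hJ, K', hK', H, rfl⟩)
  exact ⟨h, hh, (inf_le_inf_right _ (Subgroup.commutator_mono le_rfl hle)).trans hle'⟩

/-- A special subgroup and a hyperplane have a common non-trivial fixer. -/
theorem lev_act (σ : Bool) (d : ℕ) {k : ℕ} (hk : Nat.card A = p ^ k) (he : expo σ d + 1 < k)
    {J : Subgroup G} (hJ : J ∈ lev φ p σ d) (H : Hyp A p) :
    ∃ b ∈ H.1, b ≠ 1 ∧ J ≤ term σ (fixG φ (Subgroup.zpowers b)) d := by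
  obtain ⟨D, hD, hDJ⟩ := lev_term φ σ d J hJ
  have hne : D ⊓ H.1 ≠ ⊥ := by
    intro h
    have h1 : (D ⊓ H.1).index ≤ p ^ (expo σ d + 1) := by
      rw [pow_succ]
      exact Subgroup.index_inf_le.trans (Nat.mul_le_mul hD (Nat.le_of_dvd hp.out.pos H.2))
    rw [h, Subgroup.index_bot, hk] at h1
    exact absurd ((Nat.pow_le_pow_iff_right hp.out.one_lt).1 h1) (by omega)
  haveI := (Subgroup.nontrivial_iff_ne_bot (D ⊓ H.1)).2 hne
  obtain ⟨⟨b, hb⟩, hb1⟩ := exists_ne (1 : ↥(D ⊓ H.1))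
  exact ⟨b, hb.2, fun h => hb1 (Subtype.ext h), hDJ b hb.1⟩

end Cfsg.Lib.CoprimeLie
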