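/-
A coprime action of an elementary abelian group with centralisers having a nilpotent term of bounded class.
-/
import Cfsg.Agent.CoprimeLie.Special
import Cfsg.Agent.CoprimeLie.Nilpotent
import Cfsg.Agent.CoprimeLie.Engine
import Cfsg.Agent.Components.Signalizer.Sft.Main

set_option linter.unusedSectionVars false
set_option linter.style.haveILetI false

open scoped commutatorElement

namespace Cfsg.Lib.CoprimeLie

section Restrict

variable {G : Type*} [Group G] {A : Type*} [CommGroup A] (φ : A →* MulAut G)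

/-- The action on an invariant subgroup. -/
def resAct {N : Subgroup G} (hN : Inv φ N) : A →* MulAut N where
  toFun a :=
    { toFun := fun x => ⟨φ a x, hN a x x.2⟩
      invFun := fun x => ⟨φ a⁻¹ x, hN a⁻¹ x x.2⟩
      left_inv := fun x => Subtype.ext (show φ a⁻¹ (φ a (x : G)) = x by
        rw [← MulAut.mul_apply, ← map_mul, inv_mul_cancel, map_one, MulAut.one_apply])
      right_inv := fun x => Subtype.ext (show φ a (φ a⁻¹ (x : G)) = x by
        rw [← MulAut.mul_apply, ← map_mul, mul_inv_cancel, map_one, MulAut.one_apply])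
      map_mul' := fun x y => Subtype.ext (map_mul (φ a) (x : G) y) }
  map_one' := MulEquiv.ext fun x => Subtype.ext (show φ 1 (x : G) = x by rw [map_one, MulAut.one_apply])
  map_mul' a b := MulEquiv.ext fun x => Subtype.ext (show φ (a * b) (x : G) = φ a (φ b x) by
    rw [map_mul, MulAut.mul_apply])

theorem fixG_resAct {N : Subgroup G} (hN : Inv φ N) (B : Subgroup A) :
    fixG (resAct φ hN) B = (fixG φ B).subgroupOf N := by
  ext x
  exact ⟨fun h b hb => congrArg Subtype.val (h b hb), fun h b hb => Subtype.ext (h b hb)⟩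

end Restrict

theorem isSolvable_of_fix {G A : Type} [Group G] [Finite G] [CommGroup A] [Finite A] (φ : A →* MulAut G) {p : ℕ}
    [hp : Fact p.Prime] (hA : ∀ a : A, a ^ p = 1) (hcop : (Nat.card G).Coprime p) {k : ℕ}
    (hk : Nat.card A = p ^ k) (hk3 : 3 ≤ k)
    (hsol : ∀ a : A, a ≠ 1 → Group.IsSolvable (fixG φ (Subgroup.zpowers a))) : Group.IsSolvable G := by
  haveI : Finite (G ⋊[φ] A) := Finite.of_equiv _ SemidirectProduct.equivProd.symm
  have hinj := SemidirectProduct.inr_injective (φ := φ)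
  set A' := (SemidirectProduct.inr : A →* G ⋊[φ] A).range with hA'
  set θ : G ⋊[φ] A → Subgroup (G ⋊[φ] A) := fun y =>
    (fixG φ (Subgroup.zpowers y.right)).map SemidirectProduct.inl with hθdef
  have hA'e : Cfsg.IsElementaryAbelian p A' := by
    refine ⟨⟨⟨fun u v => ?_⟩⟩, ?_⟩
    · obtain ⟨a, ha⟩ := u.2
      obtain ⟨b, hb⟩ := v.2
      refine Subtype.ext ?_
      rw [Subgroup.coe_mul, Subgroup.coe_mul, ← ha, ← hb, ← map_mul, ← map_mul, mul_comm]
    · rintro _ ⟨a, rfl⟩
      rw [← map_pow, hA, map_one]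
  have hcard : p ^ 3 ≤ Nat.card A' := by
    rw [hA', MonoidHom.range_eq_map, Subgroup.card_map_of_injective hinj, Nat.card_congr Subgroup.topEquiv.toEquiv, hk]
    exact Nat.pow_le_pow_right hp.out.pos hk3
  have hne : ∀ a : A, (SemidirectProduct.inr a : G ⋊[φ] A) ≠ 1 → a ≠ 1 := fun a h h' => h (by rw [h', map_one])
  have hcomm : ∀ (a : A) (x : G), (SemidirectProduct.inl x : G ⋊[φ] A) ∈
      Subgroup.centralizer {(SemidirectProduct.inr a : G ⋊[φ] A)} ↔ φ a x = x := by
    intro a x
    constructor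
    · intro h
      apply SemidirectProduct.inl_injective (φ := φ)
      rw [SemidirectProduct.inl_aut, map_inv, mul_inv_eq_iff_eq_mul]
      exact (Subgroup.mem_centralizer_singleton_iff.1 h).symm
    · intro h
      have h' := SemidirectProduct.inl_aut (φ := φ) a x
      rw [h, map_inv, eq_mul_inv_iff_mul_eq] at h'
      exact Subgroup.mem_centralizer_singleton_iff.2 h'
  have hθ : Cfsg.IsSolvableSignalizerFunctor p A' θ := by
    refine ⟨⟨?_, ?_, ?_, ?_⟩, ?_⟩
    · rintro _ ⟨a, rfl⟩ - _ ⟨x, hx, rfl⟩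
      exact (hcomm a x).2 (hx a (by simp [SemidirectProduct.right_inr]))
    · rintro _ ⟨a, rfl⟩ -
      rw [Subgroup.card_map_of_injective SemidirectProduct.inl_injective]
      exact fun h => (hp.out.coprime_iff_not_dvd.1 hcop.symm) (h.trans (Subgroup.card_subgroup_dvd_card _))
    · rintro _ ⟨a, rfl⟩ - _ ⟨b, rfl⟩ _ ⟨x, hx, rfl⟩
      exact ⟨φ b x, inv_fixG φ _ b x hx, by rw [SemidirectProduct.inl_aut, map_inv]⟩
    · rintro _ ⟨a, rfl⟩ - _ ⟨b, rfl⟩ - _ ⟨⟨x, hx, rfl⟩, hxb⟩
      refine ⟨x, ?_, rfl⟩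
      rw [SemidirectProduct.right_inr]
      exact mem_fixG_zpowers φ ((hcomm b x).1 hxb)
    · rintro _ ⟨a, rfl⟩ ha
      haveI := hsol a (hne a ha)
      show Group.IsSolvable ((fixG φ (Subgroup.zpowers (SemidirectProduct.inr a : G ⋊[φ] A).right)).map
        (SemidirectProduct.inl : G →* G ⋊[φ] A))
      rw [SemidirectProduct.right_inr]
      exact Group.isSolvable_of_surjective ((SemidirectProduct.inl : G →* G ⋊[φ] A).subgroupMap_surjective
        (fixG φ (Subgroup.zpowers a)))
  obtain ⟨W, hW, hWle⟩ := Cfsg.Lib.Sft.exists_member hA'e hcard hθ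
  have hsub : (⊤ : Subgroup G).map (SemidirectProduct.inl : G →* G ⋊[φ] A) ≤ W := by
    rw [Subgroup.map_le_iff_le_comap]
    refine (le_iSup_fixG φ hA hcop (inv_top φ)).trans (iSup_le fun H => inf_le_right.trans ?_)
    have hHne : H.1 ≠ ⊥ := by
      intro h
      have h' := Nat.le_of_dvd hp.out.pos H.2
      rw [h, Subgroup.index_bot, hk] at h'
      exact absurd ((Nat.pow_le_pow_iff_right hp.out.one_lt).1 (by rwa [pow_one] : p ^ k ≤ p ^ 1)) (by omega)
    haveI := (Subgroup.nontrivial_iff_ne_bot H.1).2 hHne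
    obtain ⟨⟨b, hb⟩, hb1⟩ := exists_ne (1 : H.1)
    intro x hx
    refine hWle (SemidirectProduct.inr b) ⟨b, rfl⟩ (fun h => hb1 (Subtype.ext (hinj (by rw [h]; exact (map_one _).symm))))
      ⟨x, ?_, rfl⟩
    rw [SemidirectProduct.right_inr]
    exact fixG_antitone φ (Subgroup.zpowers_le.2 hb) hx
  haveI : Group.IsSolvable W := hW.1
  refine Group.isSolvable_of_isSolvable_injective
    (f := ((SemidirectProduct.inl : G →* G ⋊[φ] A).codRestrict W fun x => hsub ⟨x, trivial, rfl⟩)) ?_
  intro x y h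
  exact SemidirectProduct.inl_injective (congrArg Subtype.val h)

/-- The bound of the theorem. -/
def bound (σ : Bool) (p k c d : ℕ) : ℕ :=
  classBound p (levBound σ (2 ^ p ^ k) d) c (c + d)

theorem levBound_mono (σ : Bool) {h h' : ℕ} (hh : h ≤ h') : ∀ i, levBound σ h i ≤ levBound σ h' i
  | 0 => hh
  | i + 1 => by
    refine Nat.mul_le_mul (Nat.mul_le_mul (levBound_mono σ hh i) ?_) hh
    cases σ
    · exact hh
    · exact levBound_mono true hh i

/-- The theorem, for both series. -/
theorem main (σ : Bool) (p k c d : ℕ) [hp : Fact p.Prime] (hk3 : 3 ≤ k) (he : expo σ d + 1 < k) {G A : Type}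
    [Group G] [Finite G] [CommGroup A] [Finite A] (φ : A →* MulAut G) (hcop : (Nat.card G).Coprime p)
    (hA : ∀ a : A, a ^ p = 1) (hk : Nat.card A = p ^ k)
    (hyp : ∀ a : A, a ≠ 1 → (term σ (fixG φ (Subgroup.zpowers a)) d).lowerCentralSeries c = ⊥) :
    (term σ (⊤ : Subgroup G) d).lowerCentralSeries (bound σ p k c d) = ⊥ := by
  have hsolv : Group.IsSolvable G := isSolvable_of_fix φ hA hcop hk hk3 fun a ha =>
    isSolvable_of_dser_eq_bot (dser_eq_bot (hyp a ha))
  set N := term σ (⊤ : Subgroup G) d with hNdef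
  have hN : Inv φ N := inv_term φ σ (inv_top φ) d
  set ψ := resAct φ hN with hψ
  have hcopN : (Nat.card N).Coprime p := hcop.coprime_dvd_left (Subgroup.card_subgroup_dvd_card N)
  -- at most `M` special subgroups
  set M := levBound σ (2 ^ p ^ k) d with hM
  have hM' : (lev φ p σ d).card ≤ M := by
    refine (card_lev_le φ σ d).trans (levBound_mono σ ?_ d)
    calc Nat.card (Hyp A p) ≤ Nat.card (Subgroup A) :=
          Nat.card_le_card_of_injective (fun H => H.1) Subtype.val_injective
      _ ≤ Nat.card (Set A) := Nat.card_le_card_of_injective (fun H : Subgroup A => (H : Set A)) SetLike.coe_injective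
      _ = 2 ^ p ^ k := by
        classical
        haveI := Fintype.ofFinite A
        rw [Nat.card_eq_fintype_card, Fintype.card_set, ← Nat.card_eq_fintype_card, hk]
  have hnelev : ∀ i, (lev φ p σ i).Nonempty := by
    intro i
    induction i with
    | zero => exact ⟨_, (mem_lev0 φ).2 ⟨⟨⊤, by rw [Subgroup.index_top]; exact one_dvd p⟩, rfl⟩⟩
    | succ i ih =>
      obtain ⟨J, hJ⟩ := ih
      obtain ⟨J', hJ', -⟩ := lev_below_partner φ σ i J hJ
      exact ⟨_, (mem_lev_succ φ).2 ⟨J, hJ, J', hJ', ⟨⊤, by rw [Subgroup.index_top]; exact one_dvd p⟩, rfl⟩⟩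
  haveI : Nonempty (lev φ p σ d) := (hnelev d).coe_sort
  obtain ⟨idx, hidx⟩ : ∃ f : Fin M → lev φ p σ d, Function.Surjective f :=
    ⟨fun x => Function.invFun (fun q => Fin.castLE hM' ((lev φ p σ d).equivFin q)) x,
      Function.invFun_surjective ((Fin.castLE_injective hM').comp (Equiv.injective _))⟩
  set J : Fin M → Subgroup N := fun f => ((idx f : Subgroup G)).subgroupOf N with hJ
  have hlevN : ∀ X ∈ lev φ p σ d, X ≤ N := fun X hX => by
    rw [hNdef, ← iSup_lev φ hA hcop σ d]
    exact le_iSup_of_le ⟨X, hX⟩ le_rfl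
  have hgen : ⨆ f, J f = ⊤ := by
    apply Subgroup.map_injective N.subtype_injective
    rw [Subgroup.map_iSup, ← MonoidHom.range_eq_map, Subgroup.range_subtype]
    refine le_antisymm (iSup_le fun f => Subgroup.map_subtype_le _) ?_
    conv_lhs => rw [hNdef, ← iSup_lev φ hA hcop σ d]
    refine iSup_le fun X => ?_
    obtain ⟨f, hf⟩ := hidx X
    refine le_iSup_of_le f ?_
    rw [hJ, Subgroup.map_subgroupOf_eq_of_le (hlevN _ (idx f).2), hf]
  have hact : ∀ f (H : Hyp A p), ∃ b ∈ H.1, b ≠ 1 ∧ ∃ Q : Subgroup N,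
      fixG ψ (Subgroup.zpowers b) ≤ Subgroup.normalizer (Q : Set N) ∧ Q.lowerCentralSeries c = ⊥ ∧ J f ≤ Q := by
    intro f H
    obtain ⟨b, hb, hb1, hle⟩ := lev_act φ σ d hk he (idx f).2 H
    refine ⟨b, hb, hb1, (term σ (fixG φ (Subgroup.zpowers b)) d).subgroupOf N, ?_, ?_,
      fun x hx => hle hx⟩
    · rw [hψ, fixG_resAct]
      intro x hx
      have := term_le_normalizer σ (fixG φ (Subgroup.zpowers b)) d hx
      exact Subgroup.mem_normalizer_iff.2 fun y => Subgroup.mem_normalizer_iff.1 this (y : G)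
    · apply Subgroup.map_injective N.subtype_injective
      rw [Subgroup.map_lowerCentralSeries, Subgroup.map_subgroupOf_eq_of_le (term_mono le_top d), Subgroup.map_bot,
        hyp b hb1]
  haveI : Group.IsNilpotent N := isNilpotent_of_act ψ hA hcopN J hgen fun f H => by
    obtain ⟨b, hb, -, h⟩ := hact f H
    exact ⟨b, hb, h⟩
  have D : Specials ψ p J c (c + d) := by
    refine ⟨hA, hcopN, fun f a x hx => lev_inv φ σ d _ (idx f).2 a _ hx, hgen, fun f g H => ?_, hact, fun a ha => ?_⟩
    · obtain ⟨h, hh, hle⟩ := lev_mul φ σ d (idx f).2 (idx g).2 H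
      obtain ⟨e, he'⟩ := hidx ⟨h, hh⟩
      refine ⟨e, fun x hx => ?_⟩
      show (x : G) ∈ (idx e : Subgroup G)
      rw [he']
      refine hle ⟨?_, fun b hb => congrArg Subtype.val (hx.2 b hb)⟩
      have h1 : (x : G) ∈ ⁅J f, J g⁆.map N.subtype := ⟨x, hx.1, rfl⟩
      rw [Subgroup.map_commutator, hJ, Subgroup.map_subgroupOf_eq_of_le (hlevN _ (idx f).2),
        Subgroup.map_subgroupOf_eq_of_le (hlevN _ (idx g).2)] at h1
      exact h1
    · apply Subgroup.map_injective N.subtype_injective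
      rw [map_dser, Subgroup.map_bot]
      refine le_bot_iff.1 ((dser_mono ?_ _).trans (dser_eq_bot (hyp a ha)).le)
      rw [hψ, fixG_resAct]
      rintro _ ⟨z, hz, rfl⟩
      exact hz
  obtain ⟨a, ha⟩ : ∃ a : A, a ≠ 1 := by
    haveI : Nontrivial A := Finite.one_lt_card_iff_nontrivial.1 (by rw [hk]; exact Nat.one_lt_pow (by omega) hp.out.one_lt)
    exact exists_ne 1
  have h := lcs_classBound D ha
  rw [Fintype.card_fin] at h
  rw [← Subgroup.top_subtype_lowerCentralSeries, bound, h, Subgroup.map_bot]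

theorem map_derivedSeries_eq_term {G : Type*} [Group G] (C : Subgroup G) :
    ∀ d, (derivedSeries C d).map C.subtype = term true C d
  | 0 => by rw [derivedSeries_zero, ← MonoidHom.range_eq_map, Subgroup.range_subtype]; rfl
  | d + 1 => by rw [derivedSeries_succ, Subgroup.map_commutator, map_derivedSeries_eq_term C d]; rfl

theorem derivedSeries_eq_term {G : Type*} [Group G] : ∀ d, derivedSeries G d = term true (⊤ : Subgroup G) d
  | 0 => rfl
  | d + 1 => by rw [derivedSeries_succ, derivedSeries_eq_term d]; rfl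

theorem lcs_eq_term {G : Type*} [Group G] (C : Subgroup G) : ∀ d, C.lowerCentralSeries d = term false C d
  | 0 => rfl
  | d + 1 => by rw [Subgroup.lowerCentralSeries_succ, lcs_eq_term C d]; rfl

theorem eqLocus_eq_fixG {G : Type*} [Group G] {A : Type*} [CommGroup A] (φ : A →* MulAut G) (a : A) :
    (φ a).toMonoidHom.eqLocus (MonoidHom.id G) = fixG φ (Subgroup.zpowers a) :=
  le_antisymm (fun _ hx => mem_fixG_zpowers φ hx) fun _ hx => hx a (Subgroup.mem_zpowers a)

end Cfsg.Lib.CoprimeLie
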